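import Groth.Agent.Lib.CMReg.ProjSpace
import Groth.Agent.Lib.Spectral25.Vanish
import Groth.Agent.Lib.QCoh.SupportExact
import Groth.Agent.Lib.Euler.Torsion
import Groth.Agent.Lib.Ref1.Frame
import Groth.Agent.Lib.FinCov.Frame
import Groth.Agent.Lib.CodimExt27.Twist
import Groth.Agent.Lib.ProjDim.Const
import Groth.Agent.S10829
import Groth.Prelude.Def_KLin

/-! # Generically surjective maps on top cohomology -/

set_option autoImplicit false
set_option linter.style.haveILetI false
set_option backward.isDefEq.respectTransparency false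

universe u

open CategoryTheory CategoryTheory.Limits AlgebraicGeometry TopologicalSpace
open GrothLib.Cohom (hhMap)

noncomputable section

namespace GrothLib.SerrePn27

section scalars

variable {k : Type u} [CommRing k] {X : Scheme.{u}} [X.Over (Spec (CommRingCat.of k))]

theorem hhMap_add {M N : X.Modules} (f g : M ⟶ N) (i : ℕ) :
    hhMap k (f + g) i = hhMap k f i + hhMap k g i := LinearMap.ext fun x => by
  rw [LinearMap.add_apply, Cohom.hhMap_apply, Cohom.hhMap_apply, Cohom.hhMap_apply, Cohom.H_map_eq_comp,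
    Cohom.H_map_eq_comp, Cohom.H_map_eq_comp, Functor.map_add, Abelian.Ext.mk₀_add]
  exact Abelian.Ext.comp_add (C := Cohom.AbSheaf X) _ _ _ _

theorem hhMap_zero {M N : X.Modules} (i : ℕ) : hhMap k (0 : M ⟶ N) i = 0 := by
  have h := hhMap_add (k := k) (0 : M ⟶ N) 0 i
  rw [add_zero] at h
  exact left_eq_add.1 h

theorem hhMap_comp {M N P : X.Modules} (f : M ⟶ N) (g : N ⟶ P) (i : ℕ) (x : Coh.HH X M i) :
    hhMap k (f ≫ g) i x = hhMap k g i (hhMap k f i x) := by
  rw [Cohom.hhMap_apply, Cohom.hhMap_apply, Cohom.hhMap_apply, Functor.map_comp, Sheaf.H.map_comp_apply]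

theorem hhMap_smulMod (M : X.Modules) (c : k) (i : ℕ) (x : Coh.HH X M i) :
    hhMap k (Formal.smulMod k M c) i x = c • x := rfl

theorem hhMap_smul {M N : X.Modules} (c : k) (φ : M ⟶ N) (i : ℕ) :
    hhMap k (c • φ) i = c • hhMap k φ i := LinearMap.ext fun x => by
  rw [LinearMap.smul_apply, KLin.smul_def, hhMap_comp, hhMap_smulMod, map_smul]

end scalars

theorem rankOne_of_isInvertible {X : Scheme.{u}} {M : X.Modules} (hM : PicF.IsInvertible M) :
    FlatMod.IsFinLocFreeOfRank 1 M := fun x => by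
  obtain ⟨U, hx, ⟨φ⟩⟩ := hM x
  exact ⟨U, hx, ⟨φ ≪≫ (coproductUniqueIso fun _ : Fin 1 => Coh.structureModule (↑U)).symm⟩⟩

section gen

variable {X : Scheme.{u}} [IsIntegral X]

/-- A map into a locally free module vanishing at the generic point vanishes. -/
theorem hom_eq_zero_of_stalk {M E : X.Modules} (hE : FlatMod.IsFinLocFree E) (f : M ⟶ E)
    (h : ∀ v, QCoh.stalkLin f (genericPoint X) v = 0) : f = 0 := by
  refine Scheme.Modules.hom_ext _ _ fun W => AddCommGrpCat.ext fun s => ?_
  show f.app W s = 0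
  refine QCoh.section_eq_zero_of_germ E _ fun z hz => ?_
  obtain ⟨T, m, e, hzT, he⟩ := FinCov.exists_frame_nhd hE z
  have hηWT : genericPoint X ∈ W ⊓ T := (genericPoint_specializes z).mem_open (W ⊓ T).2 ⟨hz, hzT⟩
  have h1 := Euler.eq_zero_of_frame_of_germ_generic he (inf_le_right : W ⊓ T ≤ T) hηWT
    (E.presheaf.map (homOfLE (inf_le_left : W ⊓ T ≤ W)).op (f.app W s)) (by
      rw [TopCat.Presheaf.germ_res_apply]
      exact (QCoh.stalkLin_germ f hηWT.1 s).symm.trans (h _))
  rw [← TopCat.Presheaf.germ_res_apply E.presheaf (homOfLE (inf_le_left : W ⊓ T ≤ W)) z ⟨hz, hzT⟩ (f.app W s),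
    h1, map_zero]

theorem notMem_support_cokernel_of_rank_one {M E : X.Modules} (hE : FlatMod.IsFinLocFreeOfRank 1 E) (f : M ⟶ E)
    (hE' : FlatMod.IsFinLocFree E) (hf : f ≠ 0) : genericPoint X ∉ CohB1.support (cokernel f) := by
  obtain ⟨v, hv⟩ : ∃ v, QCoh.stalkLin f (genericPoint X) v ≠ 0 := by
    by_contra hc
    push Not at hc
    exact hf (hom_eq_zero_of_stalk hE' f hc)
  refine QCoh.notMem_support_cokernel_of_surjective f fun w => ?_
  obtain ⟨U, e, hy, he⟩ := FinCov.exists_frame_nhd_of_rank hE (genericPoint X)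
  let l : E.presheaf.stalk (genericPoint X) ≃ₗ[X.presheaf.stalk (genericPoint X)] X.presheaf.stalk (genericPoint X) :=
    ((LinearEquiv.funUnique (Fin 1) _ _).symm ≪≫ₗ LinearEquiv.ofBijective _ (Ref1.stalk_of_isFrame he _ hy)).symm
  have ha : l (QCoh.stalkLin f (genericPoint X) v) ≠ 0 := fun h => hv (l.map_eq_zero_iff.1 h)
  have hK : IsField (X.presheaf.stalk (genericPoint X)) := Field.toIsField X.functionField
  obtain ⟨b, hb⟩ := hK.mul_inv_cancel ha
  refine ⟨(l w * b) • v, l.injective ?_⟩
  rw [map_smul, map_smul, smul_eq_mul, mul_assoc, mul_comm b, hb, mul_one]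

end gen

section proj

variable {n : ℕ} {k : Type u} [Field k]

instance isIntegral_projSpace : IsIntegral (CohB1.ProjSpace n k) := ProjDim.isIntegral_proj k n

theorem subsingleton_HH_top_of_notMem_support {M : (CohB1.ProjSpace n k).Modules}
    (h : genericPoint (CohB1.ProjSpace n k) ∉ CohB1.support M) :
    Subsingleton (Coh.HH (CohB1.ProjSpace n k) M n) := by
  haveI := Chow.isProper_toSpec n k
  haveI : IsIntegral (CohB1.ProjSpace n k) := ProjDim.isIntegral_proj k n
  haveI : (CohB1.ProjSpace n k).IsSeparated :=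
    ⟨by
      rw [show terminal.from (CohB1.ProjSpace n k) = CohB1.ProjSpace.toSpec n k ≫ terminal.from _ from
        Subsingleton.elim _ _]
      infer_instance⟩
  have hd : topologicalKrullDim (CohB1.ProjSpace n k) ≤ (n : WithBot ℕ∞) := (Groth.Agent.S10829.result k n).le
  have hle : ∀ Z : IrreducibleCloseds (CohB1.ProjSpace n k), Order.coheight Z ≤ n := fun Z =>
    WithBot.coe_le_coe.1 ((Order.coheight_le_krullDim Z).trans hd)
  haveI : IrreducibleSpace (CohB1.ProjSpace n k).toTopCat := (inferInstance : IrreducibleSpace ↥(CohB1.ProjSpace n k))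
  haveI : SpectralSpace ↥(CohB1.ProjSpace n k) := {}
  haveI : SpectralSpace (CohB1.ProjSpace n k).toTopCat := ‹SpectralSpace ↥(CohB1.ProjSpace n k)›
  let rk : (CohB1.ProjSpace n k).toTopCat → ℕ := fun x =>
    (Order.coheight (Spectral25.ptCl (X := (CohB1.ProjSpace n k).toTopCat) x)).toNat
  refine Spectral25.subsingleton_H_of_support (X := (CohB1.ProjSpace n k).toTopCat) rk
    (fun z x hzx hne => Spectral25.rk_lt n hle hzx hne) n (fun x => Spectral25.rk_le n hle x) n _
    (fun x hx => ?_) n le_rfl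
  have hx' : x = genericPoint (CohB1.ProjSpace n k) := by
    by_contra hne
    have h1 : rk (genericPoint ↥(CohB1.ProjSpace n k)) < rk x :=
      Spectral25.rk_lt (X := (CohB1.ProjSpace n k).toTopCat) n hle (genericPoint_specializes x) (Ne.symm hne)
    omega
  subst hx'
  haveI : Subsingleton (M.presheaf.stalk (genericPoint (CohB1.ProjSpace n k))) := QCoh.stalk_subsingleton_of_notMem h
  haveI : Subsingleton ((Godement25.st' (X := (CohB1.ProjSpace n k).toTopCat) (genericPoint ↥(CohB1.ProjSpace n k))).obj (Coh.toAb M)) :=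
    ‹Subsingleton (M.presheaf.stalk (genericPoint (CohB1.ProjSpace n k)))›
  exact AddCommGrpCat.isZero_of_subsingleton _

/-- Right exactness of top cohomology. -/
theorem surjective_hhMap_of_epi {M N : (CohB1.ProjSpace n k).Modules} (hM : Coh.IsCoh M) (hN : Coh.IsCoh N)
    (f : M ⟶ N) [Epi f] : Function.Surjective (hhMap k f n) := by
  have hS : (ShortComplex.mk (kernel.ι f) f (kernel.condition f)).ShortExact :=
    { exact := ShortComplex.exact_of_f_is_kernel _ (kernelIsKernel f) }
  haveI := (QCoh.isCoh_kernel f hM hN).1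
  haveI := CMReg.subsingleton_HH_of_lt (n := n) (k := k) (kernel f) (Nat.lt_succ_self n)
  intro x
  exact ((Cohom.exact₃ (A := k) hS n) x).1 (Subsingleton.elim _ _)

/-- A nonzero map into an invertible module is surjective on top cohomology. -/
theorem surjective_hhMap_of_ne_zero {M E : (CohB1.ProjSpace n k).Modules} (hM : Coh.IsCoh M)
    (hE : FlatMod.IsFinLocFreeOfRank 1 E) (hE' : FlatMod.IsFinLocFree E) (f : M ⟶ E) (hf : f ≠ 0) :
    Function.Surjective (hhMap k f n) := by
  haveI : IsIntegral (CohB1.ProjSpace n k) := ProjDim.isIntegral_proj k n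
  have hEc : Coh.IsCoh E := Euler.isCoh_of_isFinLocFree hE'
  have hI : Coh.IsCoh (Abelian.image f) := QCoh.isCoh_kernel _ hEc (QCoh.isCoh_cokernel f hM hEc)
  have hS : (ShortComplex.mk (Abelian.image.ι f) (cokernel.π f) (kernel.condition _)).ShortExact :=
    { exact := ShortComplex.exact_of_f_is_kernel _ (kernelIsKernel _) }
  haveI := subsingleton_HH_top_of_notMem_support (k := k) (M := cokernel f)
    (notMem_support_cokernel_of_rank_one hE f hE' hf)
  intro x
  obtain ⟨y, hy⟩ := ((Cohom.exact₂ (A := k) hS n) x).1 (Subsingleton.elim _ _)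
  obtain ⟨z, hz⟩ := surjective_hhMap_of_epi hM hI (Abelian.factorThruImage f) y
  refine ⟨z, ?_⟩
  rw [← hy, ← hz, ← hhMap_comp, Abelian.image.fac]

end proj

end GrothLib.SerrePn27
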