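import Groth.Agent.Lib.CMReg.Linear
import Groth.Agent.Lib.CurveMult.TwistSplit
import Groth.Agent.Lib.SerrePn27.Generic
import Groth.Agent.Lib.FinCov.FrameFree
import Groth.Agent.Lib.ProjFormula.Map
import Groth.Agent.Lib.ProjCohom.Corollaries
import Groth.Prelude.Def_KLin

/-! # Morphisms between twists -/

set_option autoImplicit false
set_option linter.style.haveILetI false
set_option backward.isDefEq.respectTransparency false

universe u

open CategoryTheory CategoryTheory.Limits AlgebraicGeometry TopologicalSpace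
open GrothLib.Cohom (hhMap)

noncomputable section

namespace GrothLib.SerrePn27

section gen

variable {k : Type u} [CommRing k] {X : Scheme.{u}} [X.Over (Spec (CommRingCat.of k))]

theorem tF_map_smulModΓ (M P : X.Modules) (r : Γ(X, ⊤)) :
    (Euler.tF P).map (Formal.smulModΓ M r) = Formal.smulModΓ ((Euler.tF P).obj M) r := by
  refine ProjFormula.hom_ext_tmul fun U s t => ?_
  show ((DCoh.toP.map (((DCoh.tensorBi (X := X)).map (Formal.smulModΓ M r)).app P)).app (Opposite.op U))
    (OX.tmulSec M P U s t) = _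
  rw [ProjFormula.map_left_tmulSec]
  exact OX.tmulSec_smul_left M P U (X.presheaf.map (homOfLE (le_top : U ≤ ⊤)).op r) s t

/-- Global sections as maps from the structure sheaf. -/
def secEquiv (M : X.Modules) : (Coh.structureModule X ⟶ M) ≃+ Γ(M, ⊤) :=
  AddEquiv.ofBijective
    (AddMonoidHom.mk' (fun f : Coh.structureModule X ⟶ M => f.app ⊤ (FinCov.one X ⊤)) fun _ _ => rfl)
    ⟨fun f g e => CurveMult.hom_ext_one f g e, fun s => ⟨FinCov.homOfSection s, by
      refine (FinCov.homOfSection_one s ⊤).trans ?_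
      show M.presheaf.map (𝟙 _) s = s
      rw [CategoryTheory.Functor.map_id]; rfl⟩⟩

/-- Maps out of the structure sheaf are classes in degree zero. -/
def homStructureEquiv (M : X.Modules) : (Coh.structureModule X ⟶ M) ≃ₗ[k] Coh.HH X M 0 where
  __ := (secEquiv M).trans (ProjCoh.H0top M).symm
  map_smul' c f := by
    refine (ProjCoh.H0top M).injective ?_
    simp only [RingHom.id_apply]
    rw [ProjCoh.H0top_smul]
    show (ProjCoh.H0top M) ((ProjCoh.H0top M).symm (secEquiv M (c • f))) =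
      (show Γ(X, ⊤) from Coh.toGlobal (X ↘ Spec (CommRingCat.of k)) c) •
        (ProjCoh.H0top M) ((ProjCoh.H0top M).symm (secEquiv M f))
    rw [AddEquiv.apply_symm_apply, AddEquiv.apply_symm_apply]
    show (c • f).app ⊤ (1 : Γ(X, ⊤)) = _ • f.app ⊤ (1 : Γ(X, ⊤))
    rw [KLin.smul_app_apply]
    congr 1
    rw [show (homOfLE (le_top : (⊤ : X.Opens) ≤ ⊤)).op = 𝟙 _ from Subsingleton.elim _ _, CategoryTheory.Functor.map_id]
    rfl

theorem linear_tF (P : X.Modules) : (Euler.tF P).Linear k :=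
  (Functor.linear_iff k _).mpr fun M c => by
    rw [KLin.smul_id, KLin.smul_id]
    exact tF_map_smulModΓ M P _

/-- Morphisms between two twists of an invertible module. -/
theorem nonempty_hom_equiv_of_tensor {L M A B E : X.Modules} (u : CohB1.tensorMod L M ≅ Coh.structureModule X)
    (u' : CohB1.tensorMod M L ≅ Coh.structureModule X) (wA : CohB1.tensorMod (Coh.structureModule X) L ≅ A)
    (wB : CohB1.tensorMod E L ≅ B) : Nonempty ((A ⟶ B) ≃ₗ[k] Coh.HH X E 0) := by
  haveI := CurveMult.isEquivalence_tF u u'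
  haveI : (Euler.tF L).Linear k := linear_tF L
  let l : (Coh.structureModule X ⟶ E) ≃ₗ[k] ((Euler.tF L).obj (Coh.structureModule X) ⟶ (Euler.tF L).obj E) :=
    LinearEquiv.ofBijective ((Euler.tF L).mapLinearMap k) ⟨(Euler.tF L).map_injective, (Euler.tF L).map_surjective⟩
  let c : ((Euler.tF L).obj (Coh.structureModule X) ⟶ (Euler.tF L).obj E) ≃ₗ[k] (A ⟶ B) :=
    Linear.homCongr k wA wB
  exact ⟨c.symm ≪≫ₗ l.symm ≪≫ₗ homStructureEquiv _⟩

end gen

variable {n : ℕ} {k : Type u} [Field k]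

theorem nonempty_hom_twist_equiv {a b e : ℤ} (h : e + a = b) :
    Nonempty ((Twist.twistProjSpace n k a ⟶ Twist.twistProjSpace n k b) ≃ₗ[k]
      Coh.HH (CohB1.ProjSpace n k) (Twist.twistProjSpace n k e) 0) := by
  obtain ⟨e0⟩ := CMReg.nonempty_twist_zero (n := n) (k := k)
  obtain ⟨u⟩ := CMReg.nonempty_twist_add (n := n) (k := k) (add_neg_cancel a)
  obtain ⟨u'⟩ := CMReg.nonempty_twist_add (n := n) (k := k) (neg_add_cancel a)
  obtain ⟨w⟩ := CMReg.nonempty_twist_add (n := n) (k := k) h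
  exact nonempty_hom_equiv_of_tensor (k := k) (X := CohB1.ProjSpace n k) (L := Twist.twistProjSpace n k a)
    (M := Twist.twistProjSpace n k (-a)) (A := Twist.twistProjSpace n k a) (B := Twist.twistProjSpace n k b)
    (E := Twist.twistProjSpace n k e) (u ≪≫ e0) (u' ≪≫ e0)
    (OX.tensorUnitLeftIso (X := CohB1.ProjSpace n k) (Twist.twistProjSpace n k a)) w

theorem finiteDimensional_HH_twist (d : ℤ) (i : ℕ) :
    FiniteDimensional k (Coh.HH (CohB1.ProjSpace n k) (Twist.twistProjSpace n k d) i) :=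
  haveI := Chow.isProper_toSpec n k
  haveI : IsProper (CohB1.ProjSpace n k ↘ Spec (CommRingCat.of k)) := inferInstanceAs (IsProper (CohB1.ProjSpace.toSpec n k))
  Euler.finiteDimensional_HH k (Euler.isCoh_of_isInvertible (CMReg.isInvertible_twist d)) i

/-- The dimensions of the two sides agree. -/
theorem finrank_HH_zero_eq_top {m e : ℤ} (h : e + m = -((n : ℤ) + 1)) :
    Module.finrank k (Coh.HH (CohB1.ProjSpace n k) (Twist.twistProjSpace n k e) 0) =
      Module.finrank k (Coh.HH (CohB1.ProjSpace n k) (Twist.twistProjSpace n k m) n) := by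
  rcases lt_or_ge e 0 with he | he
  · rcases Nat.eq_zero_or_pos n with rfl | hn
    · obtain ⟨k₁, hk₁⟩ : ∃ k₁ : ℕ, e = -(((0 : ℕ) : ℤ) + 1 + k₁) := ⟨(-1 - e).toNat, by omega⟩
      obtain ⟨k₂, hk₂⟩ : ∃ k₂ : ℕ, m = (k₂ : ℤ) := ⟨m.toNat, by omega⟩
      obtain ⟨e₁⟩ := ProjCohom.nonempty_HH_top (n := 0) (R := k) k₁
      obtain ⟨e₂⟩ := ProjCohom.nonempty_HH_zero (n := 0) (R := k) k₂
      rw [hk₁, hk₂, e₁.finrank_eq, e₂.finrank_eq, ProjCohom.finrank_forms, ProjCohom.finrank_forms, Nat.zero_add,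
        Nat.zero_add, Nat.choose_self, Nat.choose_self]
    · haveI := ProjCohom.subsingleton_HH (n := n) (R := k) (q := 0) (d := e) (by omega) (by omega)
      haveI := ProjCohom.subsingleton_HH (n := n) (R := k) (q := n) (d := m) (by omega) (by omega)
      rw [Module.finrank_zero_of_subsingleton, Module.finrank_zero_of_subsingleton]
  · obtain ⟨k₁, hk₁⟩ : ∃ k₁ : ℕ, e = (k₁ : ℤ) := ⟨e.toNat, by omega⟩
    obtain ⟨e₁⟩ := ProjCohom.nonempty_HH_zero (n := n) (R := k) k₁
    obtain ⟨e₂⟩ := ProjCohom.nonempty_HH_top (n := n) (R := k) k₁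
    rw [hk₁, e₁.finrank_eq, show m = -((n : ℤ) + 1 + k₁) by omega, e₂.finrank_eq]

theorem finrank_hom_twist (m : ℤ) :
    Module.Finite k (Twist.twistProjSpace n k m ⟶ Twist.twistProjSpace n k (-((n : ℤ) + 1))) ∧
      Module.finrank k (Twist.twistProjSpace n k m ⟶ Twist.twistProjSpace n k (-((n : ℤ) + 1))) =
        Module.finrank k (Coh.HH (CohB1.ProjSpace n k) (Twist.twistProjSpace n k m) n) := by
  have h : (-((n : ℤ) + 1) - m) + m = -((n : ℤ) + 1) := by ring
  obtain ⟨E⟩ := nonempty_hom_twist_equiv (n := n) (k := k) h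
  haveI := finiteDimensional_HH_twist (n := n) (k := k) (-((n : ℤ) + 1) - m) 0
  exact ⟨Module.Finite.equiv E.symm, E.finrank_eq.trans (finrank_HH_zero_eq_top h)⟩

end GrothLib.SerrePn27
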