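import Groth.Agent.Lib.RDerLES.LES
import Mathlib.Algebra.Homology.DerivedCategory.Ext.EnoughInjectives
import Mathlib.Algebra.Homology.DerivedCategory.Ext.ExactSequences
import Mathlib.CategoryTheory.Preadditive.Injective.Preserves
import Mathlib.CategoryTheory.Adjunction.Additive

/-! # The first nonvanishing derived functor of a right adjoint represents Ext -/

set_option autoImplicit false
set_option linter.style.haveILetI false

universe w v u v' u'

open CategoryTheory CategoryTheory.Limits
open CategoryTheory.Abelian (Ext)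

noncomputable section

namespace GrothLib.SerrePn27

variable {C : Type u} [Category.{v} C] [Abelian C] {D : Type u'} [Category.{v'} D] [Abelian D]

section derived

variable [HasInjectiveResolutions D] (R : D ⥤ C) [R.Additive] [PreservesFiniteLimits R] {S : ShortComplex D}

theorem nonempty_rightDerived_one_iso (hS : S.ShortExact) (h : IsZero ((R.rightDerived 1).obj S.X₂)) :
    Nonempty ((R.rightDerived 1).obj S.X₁ ≅ cokernel (R.map S.g)) := by
  obtain ⟨Δ⟩ := RDerLES.nonempty_derivedLES R
  have h1 := Δ.exact₁ S hS 0 1 rfl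
  have h3 := Δ.exact₃ S hS 0 1 rfl
  haveI : Epi (Δ.δ S hS 0 1 rfl) := h1.epi_f (h.eq_of_tgt _ _)
  let e := (cokernelIsCokernel _).coconePointUniqueUpToIso h3.gIsCokernel
  have hn := R.toRightDerivedZero.naturality S.g
  exact ⟨e.symm ≪≫ (cokernel.mapIso (R.map S.g) ((R.rightDerived 0).map S.g)
    (asIso (R.toRightDerivedZero.app S.X₂)) (asIso (R.toRightDerivedZero.app S.X₃)) hn).symm⟩

omit [PreservesFiniteLimits R] in
theorem nonempty_rightDerived_succ_iso (hS : S.ShortExact) (q : ℕ) (h : IsZero ((R.rightDerived (q + 1)).obj S.X₂))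
    (h' : IsZero ((R.rightDerived (q + 2)).obj S.X₂)) :
    Nonempty ((R.rightDerived (q + 2)).obj S.X₁ ≅ (R.rightDerived (q + 1)).obj S.X₃) := by
  obtain ⟨Δ⟩ := RDerLES.nonempty_derivedLES R
  haveI : Epi (Δ.δ S hS (q + 1) (q + 2) rfl) :=
    (Δ.exact₁ S hS (q + 1) (q + 2) rfl).epi_f (h'.eq_of_tgt _ _)
  haveI : Mono (Δ.δ S hS (q + 1) (q + 2) rfl) :=
    (Δ.exact₃ S hS (q + 1) (q + 2) rfl).mono_g (h.eq_of_src _ _)
  haveI : IsIso (Δ.δ S hS (q + 1) (q + 2) rfl) := isIso_of_mono_of_epi _
  exact ⟨(asIso (Δ.δ S hS (q + 1) (q + 2) rfl)).symm⟩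

end derived

/-- A class `ε` represents `F ↦ Ext^c(L F, M)`. -/
def IsUniversalClass [HasExt.{w} D] (L : C ⥤ D) {c : ℕ} {M : D} (H : C) (ε : Ext (L.obj H) M c) : Prop :=
  ∀ F : C, Function.Bijective fun φ : F ⟶ H => (Ext.mk₀ (L.map φ)).comp ε (zero_add c)

theorem exists_universal_of_iso [HasExt.{w} D] (L : C ⥤ D) {c : ℕ} {M : D} {H H' : C} (e : H' ≅ H)
    {ε : Ext (L.obj H) M c} (hε : IsUniversalClass L H ε) :
    ∃ ε' : Ext (L.obj H') M c, IsUniversalClass L H' ε' := by
  refine ⟨(Ext.mk₀ (L.map e.hom)).comp ε (zero_add c), fun F => ?_⟩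
  have h : (fun φ : F ⟶ H' => (Ext.mk₀ (L.map φ)).comp ((Ext.mk₀ (L.map e.hom)).comp ε (zero_add c)) (zero_add c)) =
      (fun φ : F ⟶ H => (Ext.mk₀ (L.map φ)).comp ε (zero_add c)) ∘ (fun φ : F ⟶ H' => φ ≫ e.hom) := by
    funext φ
    rw [Function.comp_apply, Ext.mk₀_comp_mk₀_assoc, L.map_comp]
  rw [h]
  exact (hε F).comp ⟨fun a b hab => (cancel_mono e.hom).1 hab, fun x => ⟨x ≫ e.inv, by simp⟩⟩

variable [HasExt.{w} D] [EnoughInjectives D] [HasInjectiveResolutions D] {L : C ⥤ D} {R : D ⥤ C} (adj : L ⊣ R)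
  [L.Additive] [R.Additive] [PreservesFiniteLimits R] [L.PreservesMonomorphisms]

include adj in
theorem exists_universal_succ : ∀ (c : ℕ) (M : D), Injective (R.obj M) →
    (∀ i, i < c → IsZero ((R.rightDerived (i + 1)).obj M)) →
      ∃ ε : Ext (L.obj ((R.rightDerived (c + 1)).obj M)) M (c + 1),
        IsUniversalClass L ((R.rightDerived (c + 1)).obj M) ε := by
  intro c
  induction c with
  | zero =>
    intro M hM _
    let I : InjectivePresentation M := Classical.arbitrary _
    let S := ShortComplex.mk _ _ (cokernel.condition I.f)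
    have hS : S.ShortExact := { exact := ShortComplex.exact_cokernel I.f }
    haveI : Injective I.J := I.injective
    haveI : Injective S.X₂ := I.injective
    haveI : R.PreservesInjectiveObjects := Functor.preservesInjectiveObjects_of_adjunction_of_preservesMonomorphisms adj
    haveI : Injective (R.obj S.X₂) := Functor.injective_obj R S.X₂
    haveI : Mono S.f := hS.mono_f
    haveI : Injective (R.obj S.X₁) := hM
    let π := cokernel.π (R.map S.g)
    -- `R I ≅ R M ⊕ B` with `B` injective
    have hS' : (S.map R).Exact ∧ Mono (S.map R).f := by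
      refine ⟨?_, inferInstanceAs (Mono (R.map S.f))⟩
      haveI : R.PreservesZeroMorphisms := inferInstance
      exact ShortComplex.exact_of_f_is_kernel _ (isLimitForkMapOfIsLimit' R S.zero hS.fIsKernel)
    haveI := hS'.2
    let r : R.obj S.X₂ ⟶ R.obj S.X₁ := Injective.factorThru (𝟙 _) (R.map S.f)
    have hr : R.map S.f ≫ r = 𝟙 _ := Injective.comp_factorThru _ _
    let e : R.obj S.X₂ ⟶ R.obj S.X₂ := 𝟙 _ - r ≫ R.map S.f
    have hfe : R.map S.f ≫ e = 0 := by
      simp only [e, Preadditive.comp_sub, Category.comp_id, ← Category.assoc, hr, Category.id_comp, sub_self]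
    have heg : e ≫ R.map S.g = R.map S.g := by
      simp only [e, Preadditive.sub_comp, Category.id_comp, Category.assoc, ← R.map_comp, S.zero, R.map_zero,
        comp_zero, sub_zero]
    -- the image of `R I → R Q` is a direct summand
    let im := Abelian.image (R.map S.g)
    let p : R.obj S.X₂ ⟶ im := Abelian.factorThruImage _
    have hp : kernel.ι p ≫ e = 0 := by
      have h0 : kernel.ι p ≫ R.map S.g = 0 := by
        rw [← Abelian.image.fac (R.map S.g), ← Category.assoc, kernel.condition, zero_comp]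
      obtain ⟨u, hu⟩ := KernelFork.IsLimit.lift' hS'.1.fIsKernel (kernel.ι p) h0
      rw [← hu]
      exact (Category.assoc _ _ _).trans ((congrArg (u ≫ ·) hfe).trans comp_zero)
    let σ : im ⟶ R.obj S.X₂ := Abelian.epiDesc p e hp
    have hσ : σ ≫ R.map S.g = Abelian.image.ι (R.map S.g) := by
      rw [← cancel_epi p]
      show p ≫ σ ≫ R.map S.g = Abelian.factorThruImage (R.map S.g) ≫ Abelian.image.ι (R.map S.g)
      rw [Abelian.comp_epiDesc_assoc, heg, Abelian.image.fac]
    haveI : Injective im := by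
      have hretr : σ ≫ p = 𝟙 im := by
        rw [← cancel_mono (Abelian.image.ι (R.map S.g)), Category.assoc, Abelian.image.fac, hσ, Category.id_comp]
      exact ⟨fun g f => ⟨Injective.factorThru (g ≫ σ) f ≫ p, by
        rw [← Category.assoc, Injective.comp_factorThru, Category.assoc, hretr, Category.comp_id]⟩⟩
    let rim : R.obj S.X₃ ⟶ im := Injective.factorThru (𝟙 im) (Abelian.image.ι (R.map S.g))
    have hrim : Abelian.image.ι (R.map S.g) ≫ rim = 𝟙 im := Injective.comp_factorThru _ _
    let q : R.obj S.X₃ ⟶ R.obj S.X₃ := 𝟙 _ - rim ≫ Abelian.image.ι (R.map S.g)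
    have hgq : R.map S.g ≫ q = 0 := by
      have h1 : R.map S.g ≫ rim ≫ Abelian.image.ι (R.map S.g) = R.map S.g := by
        calc R.map S.g ≫ rim ≫ Abelian.image.ι (R.map S.g)
            = (p ≫ Abelian.image.ι (R.map S.g)) ≫ rim ≫ Abelian.image.ι (R.map S.g) :=
              congrArg (· ≫ rim ≫ Abelian.image.ι (R.map S.g)) (Abelian.image.fac (R.map S.g)).symm
          _ = p ≫ Abelian.image.ι (R.map S.g) := by rw [Category.assoc, reassoc_of% hrim]; erw [Category.id_comp]
          _ = R.map S.g := Abelian.image.fac _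
      simp only [q, Preadditive.comp_sub, Category.comp_id, h1, sub_self]
    let s : cokernel (R.map S.g) ⟶ R.obj S.X₃ := cokernel.desc _ q hgq
    have hsπ : s ≫ π = 𝟙 _ := by
      refine coequalizer.hom_ext ?_
      have h1 : Abelian.image.ι (R.map S.g) ≫ π = 0 := kernel.condition _
      show π ≫ s ≫ π = π ≫ 𝟙 _
      rw [Category.comp_id, cokernel.π_desc_assoc]
      simp only [q, Preadditive.sub_comp, Category.id_comp, Category.assoc, h1, comp_zero, sub_zero]
    -- the class
    let ε : Ext (L.obj (cokernel (R.map S.g))) S.X₁ 1 :=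
      (Ext.mk₀ ((adj.homEquiv _ _).symm s)).comp hS.extClass (zero_add 1)
    have key : ∀ {F : C} (φ : F ⟶ cokernel (R.map S.g)), (Ext.mk₀ (L.map φ)).comp ε (zero_add 1) =
        (Ext.mk₀ ((adj.homEquiv F S.X₃).symm (φ ≫ s))).comp hS.extClass (zero_add 1) := fun φ => by
      rw [Ext.mk₀_comp_mk₀_assoc, Adjunction.homEquiv_naturality_left_symm]
    have hker : ∀ {F : C} (ψ : F ⟶ R.obj S.X₃),
        (Ext.mk₀ ((adj.homEquiv F S.X₃).symm ψ)).comp hS.extClass (zero_add 1) = 0 ↔ ψ ≫ π = 0 := by
      intro F ψ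
      constructor
      · intro h0
        obtain ⟨z, hz⟩ := Ext.covariant_sequence_exact₃ _ hS _ (zero_add 1) h0
        obtain ⟨χ, rfl⟩ : ∃ χ, Ext.mk₀ χ = z := (Ext.mk₀_bijective _ _).2 z
        rw [Ext.mk₀_comp_mk₀] at hz
        have h2 : ψ = adj.homEquiv F S.X₂ χ ≫ R.map S.g := by
          rw [← Adjunction.homEquiv_naturality_right, (Ext.mk₀_bijective _ _).1 hz, Equiv.apply_symm_apply]
        rw [h2, Category.assoc, cokernel.condition, comp_zero]
      · intro h0
        have h1 : ψ = kernel.lift π ψ h0 ≫ σ ≫ R.map S.g := by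
          rw [hσ]
          exact (kernel.lift_ι π ψ h0).symm
        rw [h1, ← Category.assoc, Adjunction.homEquiv_naturality_right_symm, ← Ext.mk₀_comp_mk₀,
          Ext.comp_assoc_of_second_deg_zero, hS.comp_extClass, Ext.comp_zero]
    have hε : IsUniversalClass L (cokernel (R.map S.g)) ε := fun F => by
      refine ⟨fun φ φ' e0 => ?_, fun x => ?_⟩
      · have h0 : (Ext.mk₀ ((adj.homEquiv F S.X₃).symm ((φ - φ') ≫ s))).comp hS.extClass (zero_add 1) = 0 := by
          rw [← key, L.map_sub, sub_eq_add_neg, Ext.mk₀_add, Ext.add_comp, Ext.mk₀_neg, Ext.neg_comp]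
          exact (sub_eq_add_neg _ _).symm.trans (sub_eq_zero.2 e0)
        have h1 := (hker _).1 h0
        rw [Category.assoc, hsπ, Category.comp_id] at h1
        exact sub_eq_zero.1 h1
      · obtain ⟨y, rfl⟩ := Ext.covariant_sequence_exact₁ _ hS x (Ext.eq_zero_of_injective _) (zero_add 1)
        obtain ⟨ψ₀, rfl⟩ : ∃ ψ, Ext.mk₀ ψ = y := (Ext.mk₀_bijective _ _).2 y
        obtain ⟨ψ, rfl⟩ := (adj.homEquiv F S.X₃).symm.surjective ψ₀
        refine ⟨ψ ≫ π, ?_⟩
        show (Ext.mk₀ (L.map (ψ ≫ π))).comp ε (zero_add 1) = _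
        rw [key, ← sub_eq_zero, sub_eq_add_neg, ← Ext.neg_comp, ← Ext.mk₀_neg, ← Ext.add_comp, ← Ext.mk₀_add]
        have h2 : (adj.homEquiv F S.X₃).symm ((ψ ≫ π) ≫ s) + -(adj.homEquiv F S.X₃).symm ψ =
            (adj.homEquiv F S.X₃).symm ((ψ ≫ π) ≫ s - ψ) := by
          rw [← sub_eq_add_neg]
          exact (map_sub (adj.homAddEquiv F S.X₃).symm _ _).symm
        rw [h2, hker, Preadditive.sub_comp, Category.assoc, hsπ, Category.comp_id, sub_self]
    obtain ⟨e1⟩ := nonempty_rightDerived_one_iso R hS (Functor.isZero_rightDerived_obj_injective_succ R 0 I.J)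
    exact exists_universal_of_iso L e1 hε
  | succ c ih =>
    intro M hM hz
    let I : InjectivePresentation M := Classical.arbitrary _
    let S := ShortComplex.mk _ _ (cokernel.condition I.f)
    have hS : S.ShortExact := { exact := ShortComplex.exact_cokernel I.f }
    haveI : Injective I.J := I.injective
    haveI : Injective S.X₂ := I.injective
    haveI : R.PreservesInjectiveObjects := Functor.preservesInjectiveObjects_of_adjunction_of_preservesMonomorphisms adj
    haveI : Injective (R.obj S.X₂) := Functor.injective_obj R S.X₂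
    haveI : Injective (R.obj S.X₁) := hM
    have hzI : ∀ j, IsZero ((R.rightDerived (j + 1)).obj S.X₂) := fun j =>
      Functor.isZero_rightDerived_obj_injective_succ R j I.J
    -- `R Q` is a direct summand of `R I`
    have hRQ : Injective (R.obj S.X₃) := by
      obtain ⟨e1⟩ := nonempty_rightDerived_one_iso R hS (hzI 0)
      haveI : Epi (R.map S.g) := Preadditive.epi_of_isZero_cokernel _ ((hz 0 (Nat.succ_pos c)).of_iso e1.symm)
      haveI : Mono S.f := hS.mono_f
      have hex : (S.map R).Exact := ShortComplex.exact_of_f_is_kernel _ (isLimitForkMapOfIsLimit' R S.zero hS.fIsKernel)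
      haveI : Mono (S.map R).f := inferInstanceAs (Mono (R.map S.f))
      haveI : Epi (S.map R).g := inferInstanceAs (Epi (R.map S.g))
      have hSR : (S.map R).ShortExact := { exact := hex }
      haveI : Injective (S.map R).X₁ := hM
      haveI : Injective (S.map R).X₂ := inferInstanceAs (Injective (R.obj S.X₂))
      let sp := hSR.splittingOfInjective
      exact ⟨fun g f => ⟨Injective.factorThru (g ≫ sp.s) f ≫ R.map S.g, by
        rw [← Category.assoc, Injective.comp_factorThru, Category.assoc]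
        exact (congrArg (g ≫ ·) sp.s_g).trans (Category.comp_id g)⟩⟩
    have hzQ : ∀ i, i < c → IsZero ((R.rightDerived (i + 1)).obj S.X₃) := fun i hi => by
      obtain ⟨e⟩ := nonempty_rightDerived_succ_iso R hS i (hzI i) (hzI (i + 1))
      exact (hz (i + 1) (by omega)).of_iso e.symm
    obtain ⟨εQ, hεQ⟩ := ih S.X₃ hRQ hzQ
    obtain ⟨e⟩ := nonempty_rightDerived_succ_iso R hS c (hzI c) (hzI (c + 1))
    refine exists_universal_of_iso L e (ε := εQ.comp hS.extClass (rfl : c + 1 + 1 = c + 2)) fun F => ?_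
    have h : (fun φ : F ⟶ _ => (Ext.mk₀ (L.map φ)).comp (εQ.comp hS.extClass rfl) (zero_add (c + 2))) =
        (fun x : Ext (L.obj F) S.X₃ (c + 1) => x.comp hS.extClass rfl) ∘
          (fun φ : F ⟶ _ => (Ext.mk₀ (L.map φ)).comp εQ (zero_add (c + 1))) := by
      funext φ
      exact (Ext.comp_assoc _ _ _ (zero_add (c + 1)) rfl (by omega)).symm
    rw [h]
    refine Function.Bijective.comp ⟨fun x y hxy => ?_, fun z => ?_⟩ (hεQ F)
    · have h0 : (x - y).comp hS.extClass rfl = 0 := by
        rw [sub_eq_add_neg, Ext.add_comp, Ext.neg_comp]; exact (sub_eq_add_neg _ _).symm.trans (sub_eq_zero.2 hxy)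
      obtain ⟨w, hw⟩ := Ext.covariant_sequence_exact₃ _ hS _ rfl h0
      rw [Ext.eq_zero_of_injective w, Ext.zero_comp] at hw
      exact sub_eq_zero.1 hw.symm
    · obtain ⟨y, hy⟩ := Ext.covariant_sequence_exact₁ _ hS z (Ext.eq_zero_of_injective _) rfl
      exact ⟨y, hy⟩

end GrothLib.SerrePn27
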