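import Groth.Agent.Lib.SerrePn27.Pairing
import Groth.Agent.Lib.SerrePn27.Universal
import Groth.Agent.Lib.ChangeRings20.Basic
import Groth.Agent.Lib.CodimExt27.Basic
import Groth.Agent.Lib.DualTF27.Proj
import Groth.Agent.Lib.K0Sub.Dev

/-! # The dualizing module of a closed subscheme of projective space -/

set_option autoImplicit false
set_option linter.style.haveILetI false
set_option backward.isDefEq.respectTransparency false

universe u

open CategoryTheory CategoryTheory.Limits AlgebraicGeometry TopologicalSpace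
open GrothLib.Cohom (hhMap hhDelta)
open CategoryTheory.Abelian (Ext)

noncomputable section

namespace GrothLib.SerrePn27

theorem topologicalKrullDim_le_of_components {T : Type u} [TopologicalSpace T] {r : WithBot ℕ∞}
    (h : ∀ Z ∈ irreducibleComponents T, topologicalKrullDim ↥Z ≤ r) : topologicalKrullDim T ≤ r := by
  refine iSup_le fun p => ?_
  obtain ⟨W, hW, hle⟩ : ∃ W ∈ irreducibleComponents T, (p.last : Set T) ⊆ W := by
    obtain ⟨W, hW, hsub, hmax⟩ := exists_preirreducible (p.last : Set T) p.last.isIrreducible.2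
    exact ⟨W, ⟨⟨p.last.isIrreducible.1.mono hsub, hW⟩, fun Z hZ hWZ => (hmax Z hZ.2 hWZ).le⟩, hsub⟩
  have hall : ∀ j, (p j : Set T) ⊆ W := fun j => subset_trans (p.monotone (Fin.le_last j)) hle
  let g : Fin (p.length + 1) → IrreducibleCloseds ↥W := fun j =>
    ⟨Subtype.val ⁻¹' (p j : Set T),
        ⟨by
          obtain ⟨x, hx⟩ := (p j).isIrreducible.1
          exact ⟨⟨x, hall j hx⟩, hx⟩,
        fun u v hu hv hxu hyv => by
          obtain ⟨u', hu', rfl⟩ := isOpen_induced_iff.1 hu
          obtain ⟨v', hv', rfl⟩ := isOpen_induced_iff.1 hv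
          obtain ⟨x, hx, hxu⟩ := hxu
          obtain ⟨y, hy, hyv⟩ := hyv
          obtain ⟨z, hz, hzu, hzv⟩ := (p j).isIrreducible.2 u' v' hu' hv' ⟨x.1, hx, hxu⟩ ⟨y.1, hy, hyv⟩
          exact ⟨⟨z, hall j hz⟩, hz, hzu, hzv⟩⟩, (p j).isClosed.preimage continuous_subtype_val⟩
  let q : LTSeries (IrreducibleCloseds ↥W) :=
    { length := p.length
      toFun := g
      step := fun j => by
        have hj : p j.castSucc < p j.succ := p.step j
        show g j.castSucc < g j.succ
        refine lt_of_le_of_ne ?_ fun e => hj.ne ?_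
        · intro x hx
          exact hj.le hx
        refine IrreducibleCloseds.ext (Set.ext fun x => ⟨fun hx => hj.le hx, fun hx => ?_⟩)
        have hm : (⟨x, hall _ hx⟩ : ↥W) ∈ (g j.succ : Set ↥W) := hx
        rw [← e] at hm
        exact hm }
  exact le_trans (le_iSup (fun s : LTSeries (IrreducibleCloseds ↥W) => (s.length : WithBot ℕ∞)) q) (h W hW)

variable {n : ℕ} {k : Type u} [Field k]

theorem exists_dualizing {r c : ℕ} (hrc : r + c = n) {X : Scheme.{u}} [X.Over (Spec (CommRingCat.of k))]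
    (ι' : X ⟶ CohB1.ProjSpace n k) [IsClosedImmersion ι']
    (hι : ι' ≫ CohB1.ProjSpace.toSpec n k = X ↘ Spec (CommRingCat.of k))
    (hdim : topologicalKrullDim ↥X ≤ (r : WithBot ℕ∞))
    [ModSite.HasSheafHom (O := (CohB1.ProjSpace n k).sheaf) ((Scheme.Modules.pushforward ι').obj (Coh.structureModule X))]
    [HasInjectiveResolutions (ModSite.Mod (CohB1.ProjSpace n k).sheaf)]
    (ω : X.Modules)
    (hω : Nonempty ((Scheme.Modules.pushforward ι').obj ω ≅
      (ModSite.extSh (O := (CohB1.ProjSpace n k).sheaf) ((Scheme.Modules.pushforward ι').obj (Coh.structureModule X)) c).obj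
        (Twist.twistProjSpace n k (-((n : ℤ) + 1))))) :
    ∃ t : Coh.HH X ω r →ₗ[k] k, ∀ F : X.Modules, Coh.IsCoh F → ∀ ψ : Coh.HH X F r →ₗ[k] k,
      ∃! φ : F ⟶ ω, ∀ x : Coh.HH X F r,
        ψ x = t (Sheaf.H.map ((SheafOfModules.toSheaf X.ringCatSheaf).map φ) r x) := by
  haveI : ι'.IsOver (Spec (CommRingCat.of k)) := ⟨hι⟩
  haveI : EnoughInjectives X.Modules := SheafCoh.enoughInjectives_sheafOfModules X.ringCatSheaf
  haveI : EnoughInjectives (CohB1.ProjSpace n k).Modules :=
    SheafCoh.enoughInjectives_sheafOfModules (CohB1.ProjSpace n k).ringCatSheaf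
  haveI : HasExt.{u} X.Modules := hasExt_of_enoughInjectives _
  haveI : HasExt.{u} (CohB1.ProjSpace n k).Modules := hasExt_of_enoughInjectives _
  haveI : HasInjectiveResolutions (CohB1.ProjSpace n k).Modules :=
    ‹HasInjectiveResolutions (ModSite.Mod (CohB1.ProjSpace n k).sheaf)›
  haveI := SheafCoh.hasSheafHom X.sheaf (Coh.structureModule X)
  let L := Scheme.Modules.pushforward ι'
  let R := ChangeRings20.shriek ι'
  let adj : L ⊣ R := ChangeRings20.shriekAdj ι'
  haveI : L.Additive := inferInstance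
  haveI : R.Additive := adj.right_adjoint_additive
  haveI : PreservesLimitsOfSize.{0, 0} R := adj.rightAdjoint_preservesLimits
  haveI : PreservesFiniteLimits R := inferInstance
  haveI : L.PreservesMonomorphisms :=
    Functor.preservesMonomorphisms_of_adjunction (Scheme.Modules.pullbackPushforwardAdjunction ι')
  set ω₀ := Twist.twistProjSpace n k (-((n : ℤ) + 1)) with hω₀
  -- `ι^!` computes the Ext sheaves
  let eUnit : R ≅ ChangeRings20.Φ ι' (Coh.structureModule X) :=
    (Functor.rightUnitor R).symm ≪≫ Functor.isoWhiskerLeft R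
      ((Adjunction.id.ofNatIsoLeft
        ((OX.tensorBraiding (X := X)).app (Coh.structureModule X) ≪≫ OX.tensorUnitNatIso).symm).rightAdjointUniq
          (ModSite.sheafHomAdj (O := X.sheaf) (Coh.structureModule X)))
  haveI := ChangeRings20.additive_Φ ι' (Coh.structureModule X)
  have hRD : ∀ (q : ℕ) (M : X.Modules), Nonempty ((Scheme.Modules.pushforward ι').obj M ≅
      (ModSite.extSh (O := (CohB1.ProjSpace n k).sheaf) ((Scheme.Modules.pushforward ι').obj (Coh.structureModule X)) q).obj ω₀) →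
      Nonempty ((R.rightDerived q).obj ω₀ ≅ M) := fun q M hM => by
    obtain ⟨e⟩ := ChangeRings20.nonempty_rightDerived_Φ_iso ι' (Coh.structureModule X) ω₀ M q hM
    exact ⟨(SheafCoh.rightDerivedCongr eUnit q).app ω₀ ≪≫ e⟩
  have hzero : ∀ i, i < c → IsZero ((R.rightDerived i).obj ω₀) := fun i hi => by
    haveI := Chow.isProper_toSpec n k
    have hz := CodimExt27.isZero_extSh_push (CohB1.ProjSpace.toSpec n k)
      (haveI : Smooth (CohB1.ProjSpace.toSpec n k) := CurveMult.smooth_toSpec n k; DualTF27.pure_projSpace k n)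
      (DualTF27.isRegular_projSpace k n) ι'
      (Euler.isFinLocFree_of_isInvertible (CMReg.isInvertible_twist (n := n) (k := k) (-((n : ℤ) + 1)))) (q := c)
      ((add_le_add hdim le_rfl).trans (by exact_mod_cast hrc.le)) hi
    open ZeroObject in
    obtain ⟨e⟩ := hRD i 0 ⟨((Scheme.Modules.pushforward ι').map_isZero (isZero_zero _)).iso hz⟩
    exact (isZero_zero _).of_iso e
  obtain ⟨eω⟩ := hRD c ω hω
  -- the universal class
  obtain ⟨ε, hε⟩ : ∃ ε : Ext (L.obj ω) ω₀ c, IsUniversalClass L ω ε := by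
    rcases Nat.eq_zero_or_pos c with rfl | hc
    · refine exists_universal_of_iso L (eω.symm ≪≫ (asIso (R.toRightDerivedZero.app ω₀)).symm)
        (ε := Ext.mk₀ ((adj.homEquiv _ _).symm (𝟙 (R.obj ω₀)))) fun F => ?_
      have h : (fun φ : F ⟶ R.obj ω₀ => (Ext.mk₀ (L.map φ)).comp (Ext.mk₀ ((adj.homEquiv _ _).symm (𝟙 (R.obj ω₀)))) (zero_add 0)) =
          (fun g => Ext.mk₀ g) ∘ (adj.homEquiv F ω₀).symm := by
        funext φ
        rw [Function.comp_apply, Ext.mk₀_comp_mk₀, ← Adjunction.homEquiv_naturality_left_symm, Category.comp_id]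
      rw [h]
      exact (Ext.mk₀_bijective _ _).comp (Equiv.bijective _)
    · obtain ⟨c, rfl⟩ : ∃ c', c = c' + 1 := ⟨c - 1, by omega⟩
      have h0 : Injective (R.obj ω₀) := by
        haveI : Injective ((R.rightDerived 0).obj ω₀) := (hzero 0 (Nat.succ_pos c)).injective
        exact Injective.of_iso (asIso (R.toRightDerivedZero.app ω₀)).symm inferInstance
      obtain ⟨ε, hε⟩ := exists_universal_succ adj c ω₀ h0 fun i hi => hzero (i + 1) (by omega)
      exact exists_universal_of_iso L eω.symm hε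
  -- cohomology through Ext
  let e : ∀ F : X.Modules, Coh.HH X F r ≃ₗ[k]
      Ext (Coh.structureModule (CohB1.ProjSpace n k)) (L.obj F) r := fun F =>
    (LinearEquiv.ofBijective _ (bijective_toHH (k := k) r F)).symm ≪≫ₗ
      LinearEquiv.ofBijective _ (bijective_pushExt (k := k) ι' r F)
  have henat : ∀ {F G : X.Modules} (φ : F ⟶ G) (x : Coh.HH X F r),
      e G (hhMap k φ r x) = (e F x).comp (Ext.mk₀ (L.map φ)) (add_zero r) := fun {F G} φ x => by
    obtain ⟨y, rfl⟩ := (bijective_toHH (k := k) r F).2 x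
    rw [← toHH_comp]
    show pushExt (k := k) ι' G r ((LinearEquiv.ofBijective _ (bijective_toHH (k := k) r G)).symm _) =
      (pushExt (k := k) ι' F r ((LinearEquiv.ofBijective _ (bijective_toHH (k := k) r F)).symm _)).comp _ _
    rw [LinearEquiv.ofBijective_symm_apply_apply, LinearEquiv.ofBijective_symm_apply_apply, pushExt_comp]
  obtain ⟨t₀⟩ := nonempty_traceEquiv n k
  refine ⟨((traceExt t₀).comp (Ext.postcompOfLinear ε k _ hrc)).comp (e ω).toLinearMap, fun F hF ψ => ?_⟩
  haveI : IsLocallyNoetherian (CohB1.ProjSpace n k) := inferInstance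
  have hG : Coh.IsCoh (L.obj F) := K0Sub.isCoh_push ι' hF
  obtain ⟨φ, hφ, huniq⟩ := ((pairing_bijective t₀ c hrc hG).comp (hε F)).existsUnique (ψ ∘ₗ (e F).symm.toLinearMap)
  have key : ∀ (φ : F ⟶ ω) (x : Coh.HH X F r),
      (((traceExt t₀).comp (Ext.postcompOfLinear ε k _ hrc)).comp (e ω).toLinearMap) (hhMap k φ r x) =
        pairing t₀ (L.obj F) hrc ((Ext.mk₀ (L.map φ)).comp ε (zero_add c)) (e F x) := fun φ x => by
    show traceExt t₀ ((e ω (hhMap k φ r x)).comp ε hrc) = traceExt t₀ ((e F x).comp _ hrc)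
    rw [henat, Ext.comp_assoc_of_second_deg_zero]
  refine ⟨φ, fun x => ?_, fun φ' hφ' => huniq φ' (LinearMap.ext fun y => ?_)⟩
  · refine Eq.trans ?_ (key φ x).symm
    exact ((LinearMap.congr_fun hφ (e F x)).trans (congrArg ψ ((e F).symm_apply_apply x))).symm
  · obtain ⟨x, rfl⟩ := (e F).surjective y
    show pairing t₀ (L.obj F) hrc _ (e F x) = ψ ((e F).symm (e F x))
    rw [(e F).symm_apply_apply]
    exact (key φ' x).symm.trans (hφ' x).symm

end GrothLib.SerrePn27
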