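import Groth.Agent.Lib.SerrePn27.Generic
import Groth.Agent.Lib.SerrePn27.HomTwist

/-! # `O(-n-1)` is dualizing on projective space -/

set_option autoImplicit false
set_option linter.style.haveILetI false
set_option backward.isDefEq.respectTransparency false

universe u

open CategoryTheory CategoryTheory.Limits AlgebraicGeometry TopologicalSpace
open GrothLib.Cohom (hhMap)

noncomputable section

namespace GrothLib.SerrePn27

/-- The top cohomology of `O(-n-1)` over any ring. -/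
theorem nonempty_traceEquiv (n : ℕ) (R : Type u) [CommRing R] :
    Nonempty (Coh.HH (CohB1.ProjSpace n R) (Twist.twistProjSpace n R (-((n : ℤ) + 1))) n ≃ₗ[R] R) := by
  classical
  obtain ⟨e⟩ := ProjCohom.nonempty_HH_top (n := n) (R := R) 0
  rw [show -((n : ℤ) + 1 + ((0 : ℕ) : ℤ)) = -((n : ℤ) + 1) by push_cast; ring] at e
  haveI : Unique {P : Fin (n + 1) → ℕ // ∑ i, P i = 0} :=
    { default := ⟨0, by simp⟩
      uniq := fun P => Subtype.ext (funext fun i => (Finset.sum_eq_zero_iff.1 P.2) i (Finset.mem_univ i)) }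
  exact ⟨e ≪≫ₗ ProjCohom.formsEquiv 0 ≪≫ₗ LinearEquiv.funUnique _ R R⟩

section pairing

variable {k : Type u} [CommRing k] {X : Scheme.{u}} [X.Over (Spec (CommRingCat.of k))]

/-- The pairing with the top cohomology. -/
def theta {W : X.Modules} {d : ℕ} (t : Coh.HH X W d →ₗ[k] k) (F : X.Modules) :
    (F ⟶ W) →ₗ[k] Module.Dual k (Coh.HH X F d) where
  toFun φ := t ∘ₗ hhMap k φ d
  map_add' φ χ := by rw [hhMap_add, LinearMap.comp_add]
  map_smul' c φ := by rw [hhMap_smul, LinearMap.comp_smul, RingHom.id_apply]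

theorem theta_apply {W : X.Modules} {d : ℕ} (t : Coh.HH X W d →ₗ[k] k) {F : X.Modules} (φ : F ⟶ W)
    (x : Coh.HH X F d) : theta t F φ x = t (hhMap k φ d x) := rfl

theorem theta_comp {W : X.Modules} {d : ℕ} (t : Coh.HH X W d →ₗ[k] k) {E F : X.Modules} (p : E ⟶ F) (φ : F ⟶ W) :
    theta t E (p ≫ φ) = theta t F φ ∘ₗ hhMap k p d :=
  LinearMap.ext fun x => congrArg t (hhMap_comp p φ d x)

theorem bijective_theta_sigma {W : X.Modules} {d b : ℕ} (t : Coh.HH X W d →ₗ[k] k) (M : Fin b → X.Modules)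
    (h : ∀ l, Function.Bijective (theta t (M l))) : Function.Bijective (theta t (∐ M)) := by
  refine ⟨fun φ χ e => Sigma.hom_ext _ _ fun l => (h l).1 ?_, fun ψ => ?_⟩
  · rw [theta_comp, theta_comp, e]
  · choose φ hφ using fun l => (h l).2 (ψ ∘ₗ hhMap k (Sigma.ι M l) d)
    refine ⟨Sigma.desc φ, LinearMap.ext fun x => ?_⟩
    obtain ⟨y, rfl⟩ := CMReg.exists_eq_sum_sigma M d x
    rw [map_sum, map_sum]
    refine Finset.sum_congr rfl fun l _ => ?_
    have h1 : theta t (∐ M) (Sigma.desc φ) ∘ₗ hhMap k (Sigma.ι M l) d = ψ ∘ₗ hhMap k (Sigma.ι M l) d := by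
      rw [← theta_comp, Sigma.ι_desc, hφ]
    exact LinearMap.congr_fun h1 (y l)

end pairing

variable {n : ℕ} {k : Type u} [Field k]

/-- Coherent modules are quotients of sums of very negative twists. -/
theorem exists_twist_presentation {F : (CohB1.ProjSpace n k).Modules} (hF : Coh.IsCoh F) (N : ℤ) :
    ∃ (b : ℕ) (s : ℤ) (p : CMReg.sumTwist n k b s ⟶ F), s ≤ N ∧ Epi p ∧ Coh.IsCoh (kernel p) := by
  obtain ⟨t₀, ht₀⟩ := CMReg.spanned_eventually hF
  let t := max t₀ (-N)
  haveI : Module.Finite k (Coh.HH (CohB1.ProjSpace n k) (CMReg.Ft F t) 0) := CMReg.finiteDimensional_Ft hF t 0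
  obtain ⟨b, p, hp, -⟩ := CMReg.exists_presentation (A := k) (ht₀ t (le_max_left _ _)) CMReg.exists_toGlobal_eq
  obtain ⟨e1⟩ := CMReg.nonempty_Ft_freeMod (n := n) (k := k) b (-t)
  obtain ⟨e2⟩ := CMReg.nonempty_Ft_Ft F t (-t) 0 (add_neg_cancel t)
  obtain ⟨e3⟩ := CMReg.nonempty_twist_zero (n := n) (k := k)
  let a : CMReg.Ft (CMReg.Ft F t) (-t) ≅ F := e2 ≪≫ Ample.LineData.tensorModMapIso (Iso.refl F) e3 ≪≫
    GrTilde.tensorModComm (X := CohB1.ProjSpace n k) _ _ ≪≫ OX.tensorUnitLeftIso _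
  have hS0 : (ShortComplex.mk (kernel.ι p) p (kernel.condition p)).ShortExact :=
    { exact := ShortComplex.exact_of_f_is_kernel _ (kernelIsKernel p) }
  haveI := (CMReg.ft_shortExact hS0 (-t)).epi_g
  let φ : CMReg.sumTwist n k b (-t) ⟶ F :=
    e1.inv ≫ ((ShortComplex.mk (kernel.ι p) p (kernel.condition p)).map (CMReg.ftFun (-t))).g ≫ a.hom
  haveI : Epi φ := epi_comp _ _
  exact ⟨b, -t, φ, neg_le.1 (le_max_right _ _), inferInstance,
    QCoh.isCoh_kernel φ (CMReg.isCoh_sumTwist b _) hF⟩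

theorem bijective_theta_twist
    (t : Coh.HH (CohB1.ProjSpace n k) (Twist.twistProjSpace n k (-((n : ℤ) + 1))) n ≃ₗ[k] k) (m : ℤ) :
    Function.Bijective (theta t.toLinearMap (Twist.twistProjSpace n k m)) := by
  have hinj : Function.Injective (theta t.toLinearMap (Twist.twistProjSpace n k m)) := by
    refine (injective_iff_map_eq_zero _).2 fun φ hφ => ?_
    by_contra hne
    obtain ⟨x, hx⟩ := surjective_hhMap_of_ne_zero (Euler.isCoh_of_isInvertible (CMReg.isInvertible_twist m))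
      (rankOne_of_isInvertible (CMReg.isInvertible_twist _)) (Euler.isFinLocFree_of_isInvertible (CMReg.isInvertible_twist _)) φ hne
      (t.symm 1)
    have h1 := LinearMap.congr_fun hφ x
    rw [theta_apply, LinearMap.zero_apply, LinearEquiv.coe_coe, hx, t.apply_symm_apply] at h1
    exact one_ne_zero h1
  obtain ⟨hfin, hrk⟩ := finrank_hom_twist (n := n) (k := k) m
  haveI := hfin
  haveI := finiteDimensional_HH_twist (n := n) (k := k) m n
  refine ⟨hinj, (LinearMap.injective_iff_surjective_of_finrank_eq_finrank ?_).1 hinj⟩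
  rw [hrk, Subspace.dual_finrank_eq]

theorem bijective_theta
    (t : Coh.HH (CohB1.ProjSpace n k) (Twist.twistProjSpace n k (-((n : ℤ) + 1))) n ≃ₗ[k] k)
    {F : (CohB1.ProjSpace n k).Modules} (hF : Coh.IsCoh F) : Function.Bijective (theta t.toLinearMap F) := by
  have hsum : ∀ b s, Function.Bijective (theta t.toLinearMap (CMReg.sumTwist n k b s)) := fun b s =>
    bijective_theta_sigma (X := CohB1.ProjSpace n k) _ _ fun _ => bijective_theta_twist t s
  have hinj : ∀ {G : (CohB1.ProjSpace n k).Modules}, Coh.IsCoh G → Function.Injective (theta t.toLinearMap G) := by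
    intro G hG
    obtain ⟨b, s, p, -, hp, -⟩ := exists_twist_presentation hG 0
    refine (injective_iff_map_eq_zero _).2 fun φ hφ => ?_
    have h : theta t.toLinearMap _ (p ≫ φ) = 0 := by rw [theta_comp, hφ, LinearMap.zero_comp]
    exact (cancel_epi p).1 (((hsum b s).1 (h.trans (map_zero _).symm)).trans comp_zero.symm)
  refine ⟨hinj hF, fun ψ => ?_⟩
  obtain ⟨b, s, p, -, hp, hK⟩ := exists_twist_presentation hF 0
  obtain ⟨χ, hχ⟩ := (hsum b s).2 (ψ ∘ₗ hhMap k p n)
  have hz : kernel.ι p ≫ χ = 0 := by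
    refine hinj hK ?_
    rw [map_zero, theta_comp, hχ]
    refine LinearMap.ext fun x => ?_
    show ψ (hhMap k p n (hhMap k (kernel.ι p) n x)) = 0
    rw [← hhMap_comp, kernel.condition, hhMap_zero]
    exact map_zero ψ
  haveI := hp
  refine ⟨Abelian.epiDesc p χ hz, LinearMap.ext fun y => ?_⟩
  obtain ⟨x, rfl⟩ := surjective_hhMap_of_epi (CMReg.isCoh_sumTwist b s) hF p y
  have h2 : theta t.toLinearMap F (Abelian.epiDesc p χ hz) ∘ₗ hhMap k p n = ψ ∘ₗ hhMap k p n := by
    rw [← theta_comp, Abelian.comp_epiDesc, hχ]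
  exact LinearMap.congr_fun h2 x

end GrothLib.SerrePn27
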