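import Groth.Agent.Lib.SerrePn27.AsympX
import Groth.Agent.Lib.OX.LocFreeTensor
import Mathlib.CategoryTheory.Adjunction.FullyFaithful

/-! # Duality on a closed subscheme of projective space, given asymptotic vanishing -/

set_option autoImplicit false
set_option linter.style.haveILetI false
set_option backward.isDefEq.respectTransparency false

universe u

open CategoryTheory CategoryTheory.Limits AlgebraicGeometry TopologicalSpace
open GrothLib.Cohom (hhMap hhDelta)
open CategoryTheory.Abelian (Ext)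

noncomputable section

namespace GrothLib.SerrePn27

theorem faithful_pushforward_of_isInducing {X Y : Scheme.{u}} (f : X ⟶ Y) (hf : Topology.IsInducing f.base) :
    (Scheme.Modules.pushforward f).Faithful :=
  ⟨fun {M N} φ χ h => Scheme.Modules.hom_ext _ _ fun U => by
    obtain ⟨V, hV, e⟩ := hf.isOpen_iff.1 U.isOpen
    obtain rfl : f ⁻¹ᵁ ⟨V, hV⟩ = U := TopologicalSpace.Opens.ext e
    exact congrArg (fun g => g.app ⟨V, hV⟩) h⟩

section presentation

variable {n : ℕ} {k : Type u} [Field k] {X : Scheme.{u}} (ι' : X ⟶ CohB1.ProjSpace n k) [IsClosedImmersion ι']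

/-- Sums of `ι^* O(d)`. -/
abbrev sumOi (b : ℕ) (d : ℤ) : X.Modules := ∐ fun _ : Fin b => Oi ι' d

theorem isCoh_sumOi (b : ℕ) (d : ℤ) : Coh.IsCoh (sumOi ι' b d) :=
  haveI := isLocallyNoetherian_of_closed ι'
  Euler.isCoh_of_isFinLocFree (OX.isFinLocFree_sigma (X := X) _ fun _ =>
    Euler.isFinLocFree_of_isInvertible (isInvertible_Oi ι' d))

theorem exists_Oi_presentation {F : X.Modules} (hF : Coh.IsCoh F) (N : ℤ) :
    ∃ (b : ℕ) (m : ℤ) (p : sumOi ι' b (-m) ⟶ F), N ≤ m ∧ Epi p ∧ Coh.IsCoh (kernel p) := by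
  haveI := isLocallyNoetherian_of_closed ι'
  haveI := faithful_pushforward_of_isInducing ι' ι'.isClosedEmbedding.isInducing
  obtain ⟨b, s, p, hs, hp, -⟩ := exists_twist_presentation (K0Sub.isCoh_push ι' hF) (-N)
  haveI := hp
  let adj := Scheme.Modules.pullbackPushforwardAdjunction ι'
  haveI := adj.leftAdjoint_preservesColimits
  haveI : PreservesColimitsOfSize.{0, 0} (Scheme.Modules.pullback ι') := preservesColimitsOfSize_shrink.{0, u, 0, u} _
  haveI : (Scheme.Modules.pullback ι').PreservesEpimorphisms := Functor.preservesEpimorphisms_of_adjunction adj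
  obtain ⟨m, rfl⟩ : ∃ m : ℤ, s = -m := ⟨-s, (neg_neg s).symm⟩
  let q : sumOi ι' b (-m) ⟶ F :=
    (PreservesCoproduct.iso (Scheme.Modules.pullback ι') (fun _ : Fin b => Twist.twistProjSpace n k (-m))).inv ≫
      (Scheme.Modules.pullback ι').map p ≫ adj.counit.app F
  haveI : Epi q := epi_comp _ _
  exact ⟨b, m, q, by omega, inferInstance, QCoh.isCoh_kernel q (isCoh_sumOi ι' b _) hF⟩

variable [X.Over (Spec (CommRingCat.of k))] [HasExt.{u} X.Modules]

theorem subsingleton_ext_sumOi (b : ℕ) {m : ℤ} {ω : X.Modules} (h : HAcyclic (CohB1.tensorMod ω (Oi ι' m)))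
    {j : ℕ} (hj : 1 ≤ j) : Subsingleton (Ext (sumOi ι' b (-m)) ω j) := by
  refine subsingleton_ext_sigma _ fun _ => ?_
  obtain ⟨u⟩ := nonempty_inverse_Oi ι' (neg_add_cancel m)
  obtain ⟨u'⟩ := nonempty_inverse_Oi ι' (add_neg_cancel m)
  refine subsingleton_ext_of_tensor u u' (OX.tensorUnitLeftIso _)
    (E := CohB1.tensorMod ω (Oi ι' m))
    (OX.tensorAssoc ω (Oi ι' m) (Oi ι' (-m)) ≪≫ Ample.LineData.tensorModMapIso (Iso.refl ω) u' ≪≫
      GrTilde.tensorModComm (X := X) _ _ ≪≫ OX.tensorUnitLeftIso _) ?_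
  obtain ⟨j, rfl⟩ : ∃ j', j = j' + 1 := ⟨j - 1, by omega⟩
  exact h j

end presentation

section step

variable {k : Type u} [Field k] {X : Scheme.{u}} [X.Over (Spec (CommRingCat.of k))] [HasExt.{u} X.Modules]
  {ω : X.Modules} {d : ℕ} (t : Coh.HH X ω d →ₗ[k] k)
  (hθ : ∀ F : X.Modules, Coh.IsCoh F → Function.Bijective (theta t F))

/-- Duality in degree zero. -/
def extZeroDual {F : X.Modules} (hF : Coh.IsCoh F) : Ext F ω 0 ≃ₗ[k] Module.Dual k (Coh.HH X F d) :=
  Ext.linearEquiv₀ ≪≫ₗ LinearEquiv.ofBijective _ (hθ F hF)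

theorem extZeroDual_mk₀ {F : X.Modules} (hF : Coh.IsCoh F) (φ : F ⟶ ω) :
    extZeroDual t hθ hF (Ext.mk₀ φ) = theta t F φ := by
  show theta t F (Ext.linearEquiv₀ (R := k) (Ext.mk₀ φ)) = _
  rw [← Ext.linearEquiv₀_symm_apply (R := k), LinearEquiv.apply_symm_apply]

variable {S : ShortComplex X.Modules} (hS : S.ShortExact) (hK : Coh.IsCoh S.X₁) (hP : Coh.IsCoh S.X₂)

variable (k ω) in
/-- The connecting map. -/
def extDeltaX (i : ℕ) : Ext S.X₁ ω i →ₗ[k] Ext S.X₃ ω (i + 1) :=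
  Ext.precompOfLinear hS.extClass k ω (Nat.add_comm 1 i)

omit [Field k] [X.Over (Spec (CommRingCat.of k))] in
theorem surjective_extClass_comp (i : ℕ) (h : Subsingleton (Ext S.X₂ ω (i + 1))) (x : Ext S.X₃ ω (i + 1)) :
    ∃ y : Ext S.X₁ ω i, hS.extClass.comp y (Nat.add_comm 1 i) = x :=
  Ext.contravariant_sequence_exact₃ hS _ x (Subsingleton.elim _ _) (Nat.add_comm 1 i)

omit [Field k] [X.Over (Spec (CommRingCat.of k))] in
theorem eq_zero_of_extClass_comp (i : ℕ) (h : Subsingleton (Ext S.X₂ ω i)) (x : Ext S.X₁ ω i)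
    (hx : hS.extClass.comp x (Nat.add_comm 1 i) = 0) : x = 0 := by
  obtain ⟨z, rfl⟩ := Ext.contravariant_sequence_exact₁ hS _ x (Nat.add_comm 1 i) hx
  rw [Subsingleton.elim z 0, Ext.comp_zero]

include hP in
theorem extDeltaX_eq_zero_iff (x : Ext S.X₁ ω 0) :
    extDeltaX k ω hS 0 x = 0 ↔ extZeroDual t hθ hK x ∈ LinearMap.range (hhMap k S.f d).dualMap := by
  constructor
  · intro hx
    obtain ⟨z, rfl⟩ := Ext.contravariant_sequence_exact₁ hS _ x (Nat.add_comm 1 0) hx
    obtain ⟨φ, rfl⟩ : ∃ φ, Ext.mk₀ φ = z := (Ext.mk₀_bijective _ _).2 z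
    refine ⟨extZeroDual t hθ hP (Ext.mk₀ φ), ?_⟩
    rw [Ext.mk₀_comp_mk₀, extZeroDual_mk₀, extZeroDual_mk₀, theta_comp]
    rfl
  · rintro ⟨ψ, hψ⟩
    obtain ⟨φ, hφ⟩ := (hθ _ hP).2 ψ
    have h : x = Ext.mk₀ (S.f ≫ φ) := by
      refine (extZeroDual t hθ hK).injective ?_
      rw [extZeroDual_mk₀, theta_comp, hφ, ← hψ]
      rfl
    rw [h, ← Ext.mk₀_comp_mk₀]
    exact hS.extClass_comp_assoc (h := Nat.add_comm 1 0) (Ext.mk₀ φ)

include hS hK hP t hθ in
theorem nonempty_ext_one_equivX {m : ℕ} (hm : m + 1 = d) (hx : Subsingleton (Ext S.X₂ ω 1))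
    (hh : Subsingleton (Coh.HH X S.X₂ m)) :
    Nonempty (Ext S.X₃ ω 1 ≃ₗ[k] Module.Dual k (Coh.HH X S.X₃ m)) := by
  subst hm
  have hδ : Function.Injective (hhDelta k hS m) := (injective_iff_map_eq_zero _).2 fun x hx => by
    obtain ⟨z, rfl⟩ := ((Cohom.exact₃ (A := k) hS m) x).1 hx
    rw [Subsingleton.elim z 0, map_zero]
  refine nonempty_equiv_of_ker_eq (extDeltaX k ω hS 0) ((hhDelta k hS m).dualMap ∘ₗ (extZeroDual t hθ hK).toLinearMap)
    (surjective_extClass_comp hS 0 hx) ((LinearMap.dualMap_surjective_of_injective hδ).comp (extZeroDual t hθ hK).surjective)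
    (Submodule.ext fun x => ?_)
  rw [LinearMap.mem_ker, extDeltaX_eq_zero_iff t hθ hS hK hP, LinearMap.mem_ker, LinearMap.comp_apply]
  constructor
  · rintro ⟨ψ, hψ⟩
    refine LinearMap.ext fun y => ?_
    show extZeroDual t hθ hK x (hhDelta k hS m y) = 0
    rw [← hψ]
    show ψ (hhMap k S.f (m + 1) (hhDelta k hS m y)) = 0
    rw [(Cohom.exact₁ (A := k) hS m).apply_apply_eq_zero, map_zero]
  · intro h
    rw [LinearMap.range_dualMap_eq_dualAnnihilator_ker, Submodule.mem_dualAnnihilator]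
    intro y hy
    obtain ⟨z, rfl⟩ := ((Cohom.exact₁ (A := k) hS m) y).1 (LinearMap.mem_ker.1 hy)
    exact LinearMap.congr_fun h z

include hS hK hP t hθ in
theorem subsingleton_ext_oneX (hd : d = 0) (hx : Subsingleton (Ext S.X₂ ω 1)) :
    Subsingleton (Ext S.X₃ ω 1) := by
  subst hd
  haveI := hS.mono_f
  refine subsingleton_of_forall_eq 0 fun z => ?_
  obtain ⟨x, hx'⟩ := surjective_extClass_comp hS 0 hx z
  rw [← hx']
  exact (extDeltaX_eq_zero_iff t hθ hS hK hP x).2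
    (LinearMap.dualMap_surjective_of_injective (NegTwist.injective_hhMap_zero k S.f) _)

end step

variable {n : ℕ} {k : Type u} [Field k] {X : Scheme.{u}} [X.Over (Spec (CommRingCat.of k))]
  (ι' : X ⟶ CohB1.ProjSpace n k) [IsClosedImmersion ι']

/-- **Duality in a range of degrees on a closed subscheme of projective space.** -/
theorem dualityX (hι : ι' ≫ CohB1.ProjSpace.toSpec n k = X ↘ Spec (CommRingCat.of k)) [HasExt.{u} X.Modules]
    {ω : X.Modules} (hω : Coh.IsCoh ω) {d : ℕ} (t : Coh.HH X ω d →ₗ[k] k)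
    (hθ : ∀ F : X.Modules, Coh.IsCoh F → Function.Bijective (theta t F)) {s : ℕ} (hs : s ≤ d)
    (hV : ∀ p, d - s ≤ p → p < d → ∃ m₀ : ℤ, ∀ m : ℤ, m₀ ≤ m → Subsingleton (Coh.HH X (Oi ι' (-m)) p))
    (i : ℕ) : ∀ F : X.Modules, Coh.IsCoh F →
    (i ≤ s → Nonempty (Ext F ω i ≃ₗ[k] Module.Dual k (Coh.HH X F (d - i)))) ∧
      (s = d → d < i → Subsingleton (Ext F ω i)) := by
  obtain ⟨d₀, hd₀⟩ := exists_twist_vanish ι' hι hω
  have hV' : ∀ p, ∃ m₀ : ℤ, d - s ≤ p → p < d → ∀ m : ℤ, m₀ ≤ m → Subsingleton (Coh.HH X (Oi ι' (-m)) p) := fun p => by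
    by_cases h : d - s ≤ p ∧ p < d
    · obtain ⟨m₀, hm₀⟩ := hV p h.1 h.2
      exact ⟨m₀, fun _ _ => hm₀⟩
    · exact ⟨0, fun h1 h2 => absurd ⟨h1, h2⟩ h⟩
  choose M hM using hV'
  induction i with
  | zero => exact fun F hF => ⟨fun _ => ⟨extZeroDual t hθ hF⟩, fun _ h => absurd h (Nat.not_lt_zero d)⟩
  | succ i ih =>
    intro F hF
    obtain ⟨b, m₁, p, hm₁, hp, hK⟩ := exists_Oi_presentation ι' hF
      (max (d₀ : ℤ) ((Finset.range (d + 1)).sup' ⟨0, Finset.mem_range.2 (Nat.succ_pos d)⟩ M))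
    haveI := hp
    have hS : (ShortComplex.mk (kernel.ι p) p (kernel.condition p)).ShortExact :=
      { exact := ShortComplex.exact_of_f_is_kernel _ (kernelIsKernel p) }
    have hP := isCoh_sumOi ι' b (-m₁)
    have hxP : ∀ j, 1 ≤ j → Subsingleton (Ext (sumOi ι' b (-m₁)) ω j) := fun j hj =>
      subsingleton_ext_sumOi ι' b (hd₀ m₁ (le_of_max_le_left hm₁)) hj
    have hhP : ∀ q, d - s ≤ q → q < d → Subsingleton (Coh.HH X (sumOi ι' b (-m₁)) q) := fun q h1 h2 =>
      CMReg.subsingleton_HH_sigma _ fun _ => hM q h1 h2 m₁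
        ((Finset.le_sup' M (Finset.mem_range.2 (by omega))).trans (le_of_max_le_right hm₁))
    rcases Nat.eq_zero_or_pos i with rfl | hi
    · refine ⟨fun hn => ?_, fun _ hn => subsingleton_ext_oneX t hθ hS hK hP (by omega) (hxP 1 le_rfl)⟩
      obtain ⟨m, hm⟩ : ∃ m, m + 1 = d := ⟨d - 1, by omega⟩
      obtain ⟨e⟩ := nonempty_ext_one_equivX t hθ hS hK hP hm (hxP 1 le_rfl) (hhP m (by omega) (by omega))
      rw [show d - (0 + 1) = m by omega]
      exact ⟨e⟩
    · have hb : Function.Bijective (extDeltaX k ω hS i) :=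
        ⟨(injective_iff_map_eq_zero _).2 (eq_zero_of_extClass_comp hS i (hxP i hi)),
          surjective_extClass_comp hS i (hxP (i + 1) (by omega))⟩
      obtain ⟨hK1, hK2⟩ := ih (kernel p) hK
      refine ⟨fun hn => ?_, fun hsd hn => ?_⟩
      · obtain ⟨e⟩ := hK1 (by omega)
        obtain ⟨m, hm, hm1, hm2⟩ : ∃ m, d - i = m + 1 ∧ d - s ≤ m ∧ m + 1 < d :=
          ⟨d - i - 1, by omega, by omega, by omega⟩
        rw [hm] at e
        have hδ : Function.Bijective (hhDelta k hS m) := by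
          haveI := hhP m hm1 (by omega)
          haveI := hhP (m + 1) (by omega) hm2
          refine ⟨(injective_iff_map_eq_zero _).2 fun x hx => ?_, fun y => ?_⟩
          · obtain ⟨z, rfl⟩ := ((Cohom.exact₃ (A := k) hS m) x).1 hx
            rw [Subsingleton.elim z 0, map_zero]
          · exact ((Cohom.exact₁ (A := k) hS m) y).1 (Subsingleton.elim _ _)
        rw [show d - (i + 1) = m by omega]
        exact ⟨(LinearEquiv.ofBijective _ hb).symm ≪≫ₗ e ≪≫ₗ (LinearEquiv.ofBijective _ hδ).dualMap⟩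
      · haveI : Subsingleton (Ext (kernel p) ω i) := by
          rcases Nat.lt_or_ge d i with h | h
          · exact hK2 hsd h
          · obtain ⟨e⟩ := hK1 (by omega)
            haveI : Subsingleton (Coh.HH X (kernel p) (d - i)) := by
              rw [show d - i = 0 by omega]
              haveI := hhP 0 (by omega) (by omega)
              exact (NegTwist.injective_hhMap_zero k (kernel.ι p)).subsingleton
            exact e.toEquiv.subsingleton
        exact hb.2.subsingleton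

end GrothLib.SerrePn27
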