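import Groth.Agent.Lib.SerrePn27.CMVanish
import Groth.Agent.Lib.SerrePn27.DualityX

/-! # Serre duality on Cohen-Macaulay closed subschemes of projective space -/

set_option autoImplicit false
set_option linter.style.haveILetI false
set_option backward.isDefEq.respectTransparency false

universe u

open CategoryTheory CategoryTheory.Limits AlgebraicGeometry TopologicalSpace IsLocalRing
open GrothLib.Cohom (hhMap)
open CategoryTheory.Abelian (Ext)

noncomputable section

namespace GrothLib.SerrePn27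

variable {n : ℕ} {k : Type u} [Field k] {X : Scheme.{u}} [X.Over (Spec (CommRingCat.of k))]
  (ι' : X ⟶ CohB1.ProjSpace n k) [IsClosedImmersion ι']

theorem bijective_theta_of_dual {ω : X.Modules} {d : ℕ} (t : Coh.HH X ω d →ₗ[k] k)
    (hdual : ∀ F : X.Modules, Coh.IsCoh F → ∀ ψ : Coh.HH X F d →ₗ[k] k,
        ∃! φ : F ⟶ ω, ∀ x : Coh.HH X F d,
          ψ x = t (Sheaf.H.map ((SheafOfModules.toSheaf X.ringCatSheaf).map φ) d x))
    (F : X.Modules) (hF : Coh.IsCoh F) : Function.Bijective (theta t F) :=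
  (Function.bijective_iff_existsUnique _).2 fun ψ => by
    obtain ⟨φ, hφ, huniq⟩ := hdual F hF ψ
    exact ⟨φ, LinearMap.ext fun x => (hφ x).symm, fun φ' h' => huniq φ' fun x => (LinearMap.congr_fun h' x).symm⟩

omit [X.Over (Spec (CommRingCat.of k))] in
include ι' in
theorem vanish_Oi_of_CM {d : ℕ} (hd : d ≤ n)
    (hCM : ∀ x : X, IsClosed ({x} : Set X) →
      LocCoh.IsCohenMacaulayLocalRing (X.presheaf.stalk x) ∧ ringKrullDim (X.presheaf.stalk x) = d)
    (p : ℕ) (hp : p < d) : ∃ m₀ : ℤ, ∀ m : ℤ, m₀ ≤ m → Subsingleton (Coh.HH X (Oi ι' (-m)) p) := by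
  letI : X.Over (Spec (CommRingCat.of k)) := ⟨ι' ≫ CohB1.ProjSpace.toSpec n k⟩
  haveI := isLocallyNoetherian_of_closed ι'
  obtain ⟨m₀, hm₀⟩ := vanish_tensor_of_depth ι' (HomSh.isCoh_structureModule X) hd
    (fun x hx => by
      rw [depth_structure_stalk ι' x]
      obtain ⟨h1, h2⟩ := hCM x hx
      exact le_depth_of_isCohenMacaulay h2) p hp
  refine ⟨m₀, fun m hm => ?_⟩
  obtain ⟨e⟩ := nonempty_tensor_structure_Oi ι' (-m)
  exact (hhMapEquiv (k := k) e p).toEquiv.subsingleton_congr.1 (hm₀ m hm)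

/-- **Serre duality for Cohen-Macaulay equidimensional closed subschemes.** -/
theorem dualityCM (hι : ι' ≫ CohB1.ProjSpace.toSpec n k = X ↘ Spec (CommRingCat.of k)) [HasExt.{u} X.Modules]
    {d : ℕ} (hdim : topologicalKrullDim ↥X = d)
    (hCM : ∀ x : X, IsClosed ({x} : Set X) →
      LocCoh.IsCohenMacaulayLocalRing (X.presheaf.stalk x) ∧ ringKrullDim (X.presheaf.stalk x) = d)
    {ω : X.Modules} (hω : Coh.IsCoh ω) (t : Coh.HH X ω d →ₗ[k] k)
    (hdual : ∀ F : X.Modules, Coh.IsCoh F → ∀ ψ : Coh.HH X F d →ₗ[k] k,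
        ∃! φ : F ⟶ ω, ∀ x : Coh.HH X F d,
          ψ x = t (Sheaf.H.map ((SheafOfModules.toSheaf X.ringCatSheaf).map φ) d x))
    (F : X.Modules) (hF : Coh.IsCoh F) :
    (∀ i, i ≤ d → Nonempty (Ext F ω i ≃ₗ[k] Module.Dual k (Coh.HH X F (d - i)))) ∧
      ∀ i, d < i → Subsingleton (Ext F ω i) :=
  have h := fun i => dualityX ι' hι hω t (bijective_theta_of_dual t hdual) le_rfl
    (fun p _ hp => vanish_Oi_of_CM ι' (dim_le_of_closed ι' hdim) hCM p hp) i F hF
  ⟨fun i hi => (h i).1 hi, fun i hi => (h i).2 rfl hi⟩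

omit [X.Over (Spec (CommRingCat.of k))] in
include ι' in
/-- Cohen-Macaulay of full dimension at closed points from vanishing of negative twists. -/
theorem CM_of_vanish {d : ℕ} (hdim : topologicalKrullDim ↥X = d)
    (hV : ∀ p, p < d → ∃ m₀ : ℤ, ∀ m : ℤ, m₀ ≤ m → Subsingleton (Coh.HH X (Oi ι' (-m)) p))
    (x : X) (hx : IsClosed ({x} : Set X)) :
    LocCoh.IsCohenMacaulayLocalRing (X.presheaf.stalk x) ∧ ringKrullDim (X.presheaf.stalk x) = d := by
  haveI := isLocallyNoetherian_of_closed ι'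
  exact isCohenMacaulay_of_le_depth ((Chev28.dim_stalk_le_dim x).trans hdim.le)
    (depth_of_vanish ι' (dim_le_of_closed ι' hdim) hV x hx)

end GrothLib.SerrePn27
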