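import Groth.Agent.Lib.SerrePn27.ExtHH
import Groth.Agent.Lib.QCoh.ToSheaf
import Groth.Agent.Lib.K0Sub.PushExact
import Mathlib.Algebra.Homology.DerivedCategory.Ext.Map

/-! # Ext out of the structure sheaf is cohomology, naturally -/

set_option autoImplicit false
set_option linter.style.haveILetI false
set_option backward.isDefEq.respectTransparency false

universe u

open CategoryTheory CategoryTheory.Limits AlgebraicGeometry TopologicalSpace
open GrothLib.Cohom (hhMap hhDelta)
open CategoryTheory.Abelian (Ext)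

noncomputable section

namespace GrothLib.SerrePn27

section toHH

variable {k : Type u} [CommRing k] {X : Scheme.{u}} [X.Over (Spec (CommRingCat.of k))] [HasExt.{u} X.Modules]

instance finiteColimits_toAbFun (X : Scheme.{u}) : PreservesFiniteColimits (QCoh.toAbFun X) :=
  QCoh.toSheaf_preservesFiniteColimits

instance finiteLimits_toAbFun (X : Scheme.{u}) : PreservesFiniteLimits (QCoh.toAbFun X) :=
  ((((QCoh.toAbFun X).exact_tfae.out 0 3
    (a := ∀ (S : ShortComplex X.Modules), S.ShortExact → (S.map (QCoh.toAbFun X)).ShortExact)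
    (b := PreservesFiniteLimits (QCoh.toAbFun X) ∧ PreservesFiniteColimits (QCoh.toAbFun X))).1
      QCoh.toSheaf_map_shortExact)).1

/-- The class of `1`. -/
def oneClass (X : Scheme.{u}) : Coh.HH X (Coh.structureModule X) 0 :=
  (ProjCoh.H0top (Coh.structureModule X)).symm (FinCov.one X ⊤)

/-- From Ext out of the structure sheaf to cohomology. -/
def toHH (M : X.Modules) (j : ℕ) : Ext (Coh.structureModule X) M j →ₗ[k] Coh.HH X M j where
  toFun x := Ext.comp (C := Cohom.AbSheaf X) (oneClass X) (x.mapExactFunctor (QCoh.toAbFun X)) (zero_add j)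
  map_add' x y := by rw [Ext.mapExactFunctor_add]; exact Ext.comp_add (C := Cohom.AbSheaf X) _ _ _ _
  map_smul' c x := by
    rw [Ext.smul_eq_comp_mk₀, KLin.smul_id, Ext.mapExactFunctor_comp, Ext.mapExactFunctor_mk₀, RingHom.id_apply]
    exact (Ext.comp_assoc_of_third_deg_zero (C := Cohom.AbSheaf X) _ _ _ _).symm

theorem toHH_comp {M N : X.Modules} {j : ℕ} (x : Ext (Coh.structureModule X) M j) (f : M ⟶ N) :
    toHH (k := k) N j (x.comp (Ext.mk₀ f) (add_zero j)) = hhMap k f j (toHH (k := k) M j x) := by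
  show Ext.comp (C := Cohom.AbSheaf X) (oneClass X) ((x.comp (Ext.mk₀ f) (add_zero j)).mapExactFunctor _) (zero_add j) = _
  rw [Ext.mapExactFunctor_comp, Ext.mapExactFunctor_mk₀]
  exact (Ext.comp_assoc_of_third_deg_zero (C := Cohom.AbSheaf X) _ _ _ _).symm

theorem toHH_delta {S : ShortComplex X.Modules} (hS : S.ShortExact) {j : ℕ}
    (x : Ext (Coh.structureModule X) S.X₃ j) :
    toHH (k := k) S.X₁ (j + 1) (x.comp hS.extClass rfl) = hhDelta k hS j (toHH (k := k) S.X₃ j x) := by
  show Ext.comp (C := Cohom.AbSheaf X) (oneClass X) ((x.comp hS.extClass rfl).mapExactFunctor _) (zero_add (j + 1)) = _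
  rw [Ext.mapExactFunctor_comp, Ext.mapExactFunctor_extClass]
  exact (Ext.comp_assoc (C := Cohom.AbSheaf X) _ _ _ (zero_add j) rfl (by omega)).symm

theorem toHH_mk₀ {M : X.Modules} (f : Coh.structureModule X ⟶ M) :
    toHH (k := k) M 0 (Ext.mk₀ f) = homStructureEquiv (k := k) M f := by
  have h : toHH (k := k) M 0 (Ext.mk₀ f) = hhMap k f 0 (oneClass X) := by
    show Ext.comp (C := Cohom.AbSheaf X) (oneClass X) ((Ext.mk₀ f).mapExactFunctor _) (zero_add 0) = _
    rw [Ext.mapExactFunctor_mk₀]
    rfl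
  rw [h]
  refine (ProjCoh.H0top M).injective ((ProjCoh.H0top_map ((QCoh.toAbFun X).map f) _).trans ?_)
  show f.app ⊤ ((ProjCoh.H0top _) ((ProjCoh.H0top (Coh.structureModule X)).symm (FinCov.one X ⊤))) =
    (ProjCoh.H0top M) ((ProjCoh.H0top M).symm (secEquiv M f))
  rw [AddEquiv.apply_symm_apply, AddEquiv.apply_symm_apply]
  rfl

theorem bijective_toHH : ∀ (j : ℕ) (M : X.Modules), Function.Bijective (toHH (k := k) M j) := by
  intro j
  induction j with
  | zero =>
    intro M
    have h : ⇑(toHH (k := k) M 0) = ⇑(homStructureEquiv (k := k) M) ∘ ⇑(Ext.linearEquiv₀ (R := k)) := by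
      funext x
      obtain ⟨f, rfl⟩ : ∃ f, Ext.mk₀ f = x := (Ext.mk₀_bijective _ _).2 x
      rw [toHH_mk₀, Function.comp_apply, ← Ext.linearEquiv₀_symm_apply (R := k), LinearEquiv.apply_symm_apply]
    rw [h]
    exact (homStructureEquiv (k := k) M).bijective.comp (Ext.linearEquiv₀ (R := k)).bijective
  | succ j ih =>
    intro M
    haveI : EnoughInjectives X.Modules := SheafCoh.enoughInjectives_sheafOfModules X.ringCatSheaf
    let I : InjectivePresentation M := Classical.arbitrary _
    let S := ShortComplex.mk _ _ (cokernel.condition I.f)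
    have hS : S.ShortExact := { exact := ShortComplex.exact_cokernel I.f }
    haveI : Injective I.J := I.injective
    haveI : Injective S.X₂ := I.injective
    refine ⟨(injective_iff_map_eq_zero _).2 fun y hy => ?_, fun y => ?_⟩
    · obtain ⟨x, rfl⟩ := Ext.covariant_sequence_exact₁ _ hS y (Ext.eq_zero_of_injective _) rfl
      rw [toHH_delta hS] at hy
      obtain ⟨z, hz⟩ := ((Cohom.exact₃ (A := k) hS j) _).1 hy
      obtain ⟨w, rfl⟩ := (ih S.X₂).2 z
      rw [← toHH_comp] at hz
      rw [← (ih S.X₃).1 hz, Ext.comp_assoc_of_second_deg_zero, hS.comp_extClass, Ext.comp_zero]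
    · obtain ⟨z, hz⟩ := ((Cohom.exact₁ (A := k) hS j) y).1
        (@Subsingleton.elim _ (subsingleton_HH_of_injective I.J j) _ _)
      obtain ⟨x, rfl⟩ := (ih S.X₃).2 z
      exact ⟨x.comp hS.extClass rfl, (toHH_delta hS x).trans hz⟩

end toHH

section push

variable {k : Type u} [CommRing k] {X P : Scheme.{u}} [X.Over (Spec (CommRingCat.of k))]
  [P.Over (Spec (CommRingCat.of k))] (i : X ⟶ P) [IsClosedImmersion i] [i.IsOver (Spec (CommRingCat.of k))]

instance finiteColimits_pushforward : PreservesFiniteColimits (Scheme.Modules.pushforward i) :=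
  (K0Sub.pushforward_exact i).choose_spec.2

instance finiteLimits_pushforward : PreservesFiniteLimits (Scheme.Modules.pushforward i) :=
  (K0Sub.pushforward_exact i).choose_spec.1

/-- `O_P → i_* O_X`. -/
def unitPush : Coh.structureModule P ⟶ (Scheme.Modules.pushforward i).obj (Coh.structureModule X) :=
  FinCov.homOfSection (N := (Scheme.Modules.pushforward i).obj (Coh.structureModule X)) (FinCov.one X ⊤)

omit [X.Over (Spec (CommRingCat.of k))] [P.Over (Spec (CommRingCat.of k))] [IsClosedImmersion i]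
  [i.IsOver (Spec (CommRingCat.of k))] in
theorem unitPush_one : (unitPush i).app ⊤ (FinCov.one P ⊤) = FinCov.one X ⊤ := by
  refine (FinCov.homOfSection_one _ ⊤).trans ?_
  rw [show (homOfLE (le_top : (⊤ : P.Opens) ≤ ⊤)).op = 𝟙 _ from Subsingleton.elim _ _, CategoryTheory.Functor.map_id]
  rfl

variable [HasExt.{u} X.Modules] [HasExt.{u} P.Modules]

/-- Direct image on Ext out of the structure sheaf. -/
def pushExt (G : X.Modules) (j : ℕ) :
    Ext (Coh.structureModule X) G j →ₗ[k] Ext (Coh.structureModule P) ((Scheme.Modules.pushforward i).obj G) j :=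
  (Ext.precompOfLinear (Ext.mk₀ (unitPush i)) k _ (zero_add j)).comp
    ((Scheme.Modules.pushforward i).mapExtLinearMap k _ _ j)

theorem pushExt_apply (G : X.Modules) (j : ℕ) (x : Ext (Coh.structureModule X) G j) :
    pushExt (k := k) i G j x =
      (Ext.mk₀ (unitPush i)).comp (x.mapExactFunctor (Scheme.Modules.pushforward i)) (zero_add j) := rfl

theorem pushExt_comp {G G' : X.Modules} {j : ℕ} (x : Ext (Coh.structureModule X) G j) (f : G ⟶ G') :
    pushExt (k := k) i G' j (x.comp (Ext.mk₀ f) (add_zero j)) =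
      (pushExt (k := k) i G j x).comp (Ext.mk₀ ((Scheme.Modules.pushforward i).map f)) (add_zero j) := by
  rw [pushExt_apply, pushExt_apply, Ext.mapExactFunctor_comp, Ext.mapExactFunctor_mk₀,
    Ext.comp_assoc_of_third_deg_zero]

include k in
theorem subsingleton_ext_push_injective (I : X.Modules) [Injective I] (j : ℕ) :
    Subsingleton (Ext (Coh.structureModule P) ((Scheme.Modules.pushforward i).obj I) (j + 1)) := by
  haveI := Cohom.isFlasque_toAb_of_injective I
  haveI : TopCat.Sheaf.IsFlasque ((QCoh.toAbFun P).obj ((Scheme.Modules.pushforward i).obj I)) :=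
    TopCat.Presheaf.IsFlasque.pushforward_isFlasque ((QCoh.toAbFun X).obj I).obj i.base
  haveI : Subsingleton (Coh.HH P ((Scheme.Modules.pushforward i).obj I) (j + 1)) :=
    SheafCoh.flasque_H_subsingleton ((QCoh.toAbFun P).obj ((Scheme.Modules.pushforward i).obj I)) j
  exact (bijective_toHH (k := k) (j + 1) _).1.subsingleton

theorem bijective_pushExt : ∀ (j : ℕ) (G : X.Modules), Function.Bijective (pushExt (k := k) i G j) := by
  intro j
  induction j with
  | zero =>
    intro G
    have key : ∀ φ : Coh.structureModule X ⟶ G,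
        secEquiv ((Scheme.Modules.pushforward i).obj G) (unitPush i ≫ (Scheme.Modules.pushforward i).map φ) =
          secEquiv G φ := fun φ => by
      show φ.app ⊤ ((unitPush i).app ⊤ (FinCov.one P ⊤)) = φ.app ⊤ (FinCov.one X ⊤)
      rw [unitPush_one]
    have hp : ∀ φ : Coh.structureModule X ⟶ G, pushExt (k := k) i G 0 (Ext.mk₀ φ) =
        Ext.mk₀ (unitPush i ≫ (Scheme.Modules.pushforward i).map φ) := fun φ => by
      rw [pushExt_apply, Ext.mapExactFunctor_mk₀, Ext.mk₀_comp_mk₀]
    refine ⟨fun x y hxy => ?_, fun y => ?_⟩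
    · obtain ⟨φ, rfl⟩ : ∃ f, Ext.mk₀ f = x := (Ext.mk₀_bijective _ _).2 x
      obtain ⟨ψ, rfl⟩ : ∃ f, Ext.mk₀ f = y := (Ext.mk₀_bijective _ _).2 y
      rw [hp, hp] at hxy
      have h1 := congrArg (secEquiv _) ((Ext.mk₀_bijective _ _).1 hxy)
      rw [key, key] at h1
      rw [(secEquiv G).injective h1]
    · obtain ⟨ψ, rfl⟩ : ∃ f, Ext.mk₀ f = y := (Ext.mk₀_bijective _ _).2 y
      obtain ⟨φ, hφ⟩ : ∃ φ, secEquiv G φ =
          (secEquiv ((Scheme.Modules.pushforward i).obj G) ψ : Γ((Scheme.Modules.pushforward i).obj G, ⊤)) :=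
        (secEquiv G).surjective _
      refine ⟨Ext.mk₀ φ, ?_⟩
      rw [hp]
      exact congrArg Ext.mk₀ ((secEquiv _).injective ((key φ).trans hφ))
  | succ j ih =>
    intro G
    haveI : EnoughInjectives X.Modules := SheafCoh.enoughInjectives_sheafOfModules X.ringCatSheaf
    let I : InjectivePresentation G := Classical.arbitrary _
    let S := ShortComplex.mk _ _ (cokernel.condition I.f)
    have hS : S.ShortExact := { exact := ShortComplex.exact_cokernel I.f }
    have hS' := hS.map_of_exact (Scheme.Modules.pushforward i)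
    haveI : Injective I.J := I.injective
    haveI : Injective S.X₂ := I.injective
    have hδ : ∀ x : Ext (Coh.structureModule X) S.X₃ j,
        pushExt (k := k) i G (j + 1) (x.comp hS.extClass rfl) = (pushExt (k := k) i S.X₃ j x).comp hS'.extClass rfl := fun x => by
      rw [pushExt_apply, pushExt_apply, Ext.mapExactFunctor_comp, Ext.mapExactFunctor_extClass,
        Ext.comp_assoc _ _ _ (zero_add j) rfl (by omega)]
    refine ⟨(injective_iff_map_eq_zero _).2 fun y hy => ?_, fun y => ?_⟩
    · obtain ⟨x, rfl⟩ := Ext.covariant_sequence_exact₁ _ hS y (Ext.eq_zero_of_injective _) rfl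
      rw [hδ] at hy
      obtain ⟨z, hz⟩ := Ext.covariant_sequence_exact₃ _ hS' _ rfl hy
      obtain ⟨w, rfl⟩ := (ih S.X₂).2 z
      have hx : w.comp (Ext.mk₀ S.g) (add_zero j) = x := (ih S.X₃).1 ((pushExt_comp i w S.g).trans hz)
      rw [← hx, Ext.comp_assoc_of_second_deg_zero, hS.comp_extClass, Ext.comp_zero]
    · obtain ⟨z, hz⟩ := Ext.covariant_sequence_exact₁ _ hS' y
        (@Subsingleton.elim _ (subsingleton_ext_push_injective (k := k) i I.J j) _ _) rfl
      obtain ⟨x, rfl⟩ := (ih S.X₃).2 z
      exact ⟨x.comp hS.extClass rfl, (hδ x).trans hz⟩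

end push

end GrothLib.SerrePn27
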