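import Groth.Agent.Lib.SerrePn27.Asymp
import Groth.Agent.Lib.SerrePn27.ToHH
import Groth.Agent.Lib.ProjFormula.Iso
import Groth.Agent.Lib.QCoh.ClosedImmersion

/-! # Vanishing of the cohomology of negative twists on a closed subscheme -/

set_option autoImplicit false
set_option linter.style.haveILetI false
set_option backward.isDefEq.respectTransparency false

universe u

open CategoryTheory CategoryTheory.Limits AlgebraicGeometry TopologicalSpace
open CategoryTheory.Abelian (Ext)

noncomputable section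

namespace GrothLib.SerrePn27

/-- Cohomology along a closed immersion. -/
theorem nonempty_HH_push_equiv {k : Type u} [CommRing k] {X P : Scheme.{u}} [X.Over (Spec (CommRingCat.of k))]
    [P.Over (Spec (CommRingCat.of k))] (i : X ⟶ P) [IsClosedImmersion i] [i.IsOver (Spec (CommRingCat.of k))]
    (M : X.Modules) (p : ℕ) :
    Nonempty (Coh.HH X M p ≃ₗ[k] Coh.HH P ((Scheme.Modules.pushforward i).obj M) p) := by
  haveI : EnoughInjectives X.Modules := SheafCoh.enoughInjectives_sheafOfModules X.ringCatSheaf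
  haveI : EnoughInjectives P.Modules := SheafCoh.enoughInjectives_sheafOfModules P.ringCatSheaf
  haveI : HasExt.{u} X.Modules := hasExt_of_enoughInjectives _
  haveI : HasExt.{u} P.Modules := hasExt_of_enoughInjectives _
  exact ⟨(LinearEquiv.ofBijective _ (bijective_toHH (k := k) p M)).symm ≪≫ₗ
    LinearEquiv.ofBijective _ (bijective_pushExt (k := k) i p M) ≪≫ₗ
    LinearEquiv.ofBijective _ (bijective_toHH (k := k) p ((Scheme.Modules.pushforward i).obj M))⟩

variable {n : ℕ} {k : Type u} [Field k] {X : Scheme.{u}} (ι' : X ⟶ CohB1.ProjSpace n k) [IsClosedImmersion ι']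

theorem nonempty_push_Oi (d : ℤ) :
    Nonempty ((Scheme.Modules.pushforward ι').obj (Oi ι' d) ≅
      CMReg.Ft ((Scheme.Modules.pushforward ι').obj (Coh.structureModule X)) d) := by
  haveI := ProjFormula.isIso_projHom ι'
    (Euler.isFinLocFree_of_isInvertible (CMReg.isInvertible_twist (n := n) (k := k) d)) (Coh.structureModule X)
  let ru : ∀ {Z : Scheme.{u}} (A : Z.Modules),
      ((DCoh.tensorBi (X := Z)).obj A).obj (Coh.structureModule Z) ≅ A := fun {Z} A =>
    (((OX.tensorBraiding (X := Z)).app A).app (Coh.structureModule Z)).symm ≪≫ OX.tensorUnitLeftIso A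
  exact ⟨(Scheme.Modules.pushforward ι').mapIso (ru _).symm ≪≫
    (asIso (ProjFormula.projHom ι' (Twist.twistProjSpace n k d) (Coh.structureModule X))).symm ≪≫
    GrTilde.tensorModComm (X := CohB1.ProjSpace n k) _ _⟩

/-- Negative twists on a closed subscheme and the Ext sheaf of its structure sheaf. -/
theorem vanish_Oi_iff_isZero_extSh
    [ModSite.HasSheafHom (O := (CohB1.ProjSpace n k).sheaf) ((Scheme.Modules.pushforward ι').obj (Coh.structureModule X))]
    [HasInjectiveResolutions (ModSite.Mod (CohB1.ProjSpace n k).sheaf)] {p j : ℕ} (h : p + j = n) :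
    (∃ m₀ : ℤ, ∀ m : ℤ, m₀ ≤ m → Subsingleton (Coh.HH X (Oi ι' (-m)) p)) ↔
      IsZero ((ModSite.extSh (O := (CohB1.ProjSpace n k).sheaf)
        ((Scheme.Modules.pushforward ι').obj (Coh.structureModule X)) j).obj
          (Twist.twistProjSpace n k (-((n : ℤ) + 1)))) := by
  letI : X.Over (Spec (CommRingCat.of k)) := ⟨ι' ≫ CohB1.ProjSpace.toSpec n k⟩
  haveI : ι'.IsOver (Spec (CommRingCat.of k)) := ⟨rfl⟩
  refine (exists_congr fun m₀ => forall_congr' fun m => imp_congr_right fun _ => ?_).trans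
    (vanish_iff_isZero_extSh (QCoh.pushUnit_isCoh ι') h)
  obtain ⟨e⟩ := nonempty_HH_push_equiv (k := k) ι' (Oi ι' (-m)) p
  obtain ⟨f⟩ := nonempty_push_Oi ι' (-m)
  exact (e ≪≫ₗ hhMapEquiv (k := k) f p).toEquiv.subsingleton_congr

include ι' in
theorem isLocallyNoetherian_of_closed : IsLocallyNoetherian X := by
  haveI := LocallyOfFiniteType.isLocallyNoetherian ι'
  infer_instance

/-- Condition (i) gives vanishing of cohomology of negative twists. -/
theorem vanish_Oi_of_ext_vanish [X.Over (Spec (CommRingCat.of k))]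
    (hι : ι' ≫ CohB1.ProjSpace.toSpec n k = X ↘ Spec (CommRingCat.of k)) [HasExt.{u} X.Modules]
    {ω : X.Modules} (hωc : Coh.IsCoh ω) {p i : ℕ} (hi : 1 ≤ i)
    (hdual : ∀ G : X.Modules, Coh.IsCoh G → Subsingleton (Ext G ω i) → Subsingleton (Coh.HH X G p)) :
    ∃ m₀ : ℤ, ∀ m : ℤ, m₀ ≤ m → Subsingleton (Coh.HH X (Oi ι' (-m)) p) := by
  haveI := isLocallyNoetherian_of_closed ι'
  obtain ⟨d₀, hd₀⟩ := exists_twist_vanish ι' hι hωc
  refine ⟨d₀, fun m hm => hdual _ (Euler.isCoh_of_isInvertible (isInvertible_Oi ι' (-m))) ?_⟩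
  obtain ⟨u⟩ := nonempty_inverse_Oi ι' (neg_add_cancel m)
  obtain ⟨u'⟩ := nonempty_inverse_Oi ι' (add_neg_cancel m)
  refine subsingleton_ext_of_tensor u u' (OX.tensorUnitLeftIso _)
    (E := CohB1.tensorMod ω (Oi ι' m))
    (OX.tensorAssoc ω (Oi ι' m) (Oi ι' (-m)) ≪≫ Ample.LineData.tensorModMapIso (Iso.refl ω) u' ≪≫
      GrTilde.tensorModComm (X := X) _ _ ≪≫ OX.tensorUnitLeftIso _) ?_
  obtain ⟨i, rfl⟩ : ∃ i', i = i' + 1 := ⟨i - 1, by omega⟩
  exact hd₀ m hm i

end GrothLib.SerrePn27
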