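import Groth.Agent.Lib.SerrePn27.HomTwist
import Groth.Agent.Lib.Cohom.InjModule
import Groth.Agent.Lib.SheafCoh.ModGroth
import Groth.Agent.Lib.SheafCoh.Top
import Groth.Agent.Lib.OX.TensorInjective
import Groth.Agent.Lib.NegTwist.H0
import Mathlib.Algebra.Homology.DerivedCategory.Ext.Linear
import Mathlib.CategoryTheory.Preadditive.Injective.Preserves

/-! # Ext out of a finite locally free module is cohomology of the internal Hom, linearly -/

set_option autoImplicit false
set_option linter.style.haveILetI false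
set_option backward.isDefEq.respectTransparency false

universe u

open CategoryTheory CategoryTheory.Limits AlgebraicGeometry TopologicalSpace
open GrothLib.Cohom (hhMap hhDelta)
open CategoryTheory.Abelian (Ext)

noncomputable section

namespace GrothLib.SerrePn27

variable {k : Type u} [CommRing k] {X : Scheme.{u}} [X.Over (Spec (CommRingCat.of k))]

theorem nonempty_equiv_of_ker_eq' {A B C : Type u} [AddCommGroup A] [Module k A] [AddCommGroup B] [Module k B]
    [AddCommGroup C] [Module k C] (f : A →ₗ[k] B) (g : A →ₗ[k] C) (hf : Function.Surjective f)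
    (hg : Function.Surjective g) (h : LinearMap.ker f = LinearMap.ker g) : Nonempty (B ≃ₗ[k] C) :=
  ⟨(f.quotKerEquivOfSurjective hf).symm ≪≫ₗ Submodule.quotEquivOfEq _ _ h ≪≫ₗ g.quotKerEquivOfSurjective hg⟩

theorem tensor_map_smulModΓ_right (M N : X.Modules) (r : Γ(X, ⊤)) :
    ((DCoh.tensorBi (X := X)).obj M).map (Formal.smulModΓ N r) =
      Formal.smulModΓ (((DCoh.tensorBi (X := X)).obj M).obj N) r := by
  refine ProjFormula.hom_ext_tmul fun U s t => ?_
  show ((DCoh.toP.map (((DCoh.tensorBi (X := X)).obj M).map (Formal.smulModΓ N r))).app (Opposite.op U))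
    (OX.tmulSec M N U s t) = _
  rw [ProjFormula.map_right_tmulSec]
  exact OX.tmulSec_smul_right M N U (X.presheaf.map (homOfLE (le_top : U ≤ ⊤)).op r) s t

theorem sheafHom_map_smulModΓ (G N : X.Modules) [DCoh.HasSheafHom G] (r : Γ(X, ⊤)) :
    (DCoh.sheafHom G).map (Formal.smulModΓ N r) = Formal.smulModΓ ((DCoh.sheafHom G).obj N) r := by
  refine ((DCoh.sheafHomAdj G).homEquiv _ N).symm.injective ?_
  rw [Adjunction.homEquiv_counit, Adjunction.homEquiv_counit, (DCoh.sheafHomAdj G).counit_naturality,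
    tensor_map_smulModΓ_right, KLin.comp_smulModΓ]

theorem additive_sheafHom (G : X.Modules) [DCoh.HasSheafHom G] : (DCoh.sheafHom G).Additive :=
  (DCoh.sheafHomAdj G).right_adjoint_additive

theorem linear_sheafHom (G : X.Modules) [DCoh.HasSheafHom G] : (DCoh.sheafHom G).Linear k :=
  haveI := additive_sheafHom G
  (Functor.linear_iff k _).mpr fun M c => by
    rw [KLin.smul_id, KLin.smul_id]
    exact sheafHom_map_smulModΓ G M _

theorem homStructureEquiv_comp {M N : X.Modules} (a : Coh.structureModule X ⟶ M) (f : M ⟶ N) :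
    homStructureEquiv (k := k) N (a ≫ f) = hhMap k f 0 (homStructureEquiv (k := k) M a) := by
  refine (ProjCoh.H0top N).injective ?_
  refine Eq.trans ?_ (ProjCoh.H0top_map ((QCoh.toAbFun X).map f) _).symm
  show (ProjCoh.H0top N) ((ProjCoh.H0top N).symm (secEquiv N (a ≫ f))) =
    f.app ⊤ ((ProjCoh.H0top M) ((ProjCoh.H0top M).symm (secEquiv M a)))
  rw [AddEquiv.apply_symm_apply, AddEquiv.apply_symm_apply]
  rfl

section sheafHom

variable (G : X.Modules) [DCoh.HasSheafHom G]

local instance instAdditiveSheafHom {G : X.Modules} [DCoh.HasSheafHom G] : (DCoh.sheafHom G).Additive := additive_sheafHom G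

/-- `G ⊗ O ≅ G`. -/
def tensorUnitRightIso : ((DCoh.tensorBi (X := X)).obj G).obj (Coh.structureModule X) ≅ G :=
  (((OX.tensorBraiding (X := X)).app G).app (Coh.structureModule X)).symm ≪≫ OX.tensorUnitLeftIso G

/-- `Hom(G, M) = H⁰(Hom(G, M))`. -/
def homEquivHH (M : X.Modules) : (G ⟶ M) ≃ₗ[k] Coh.HH X ((DCoh.sheafHom G).obj M) 0 where
  toFun φ := homStructureEquiv (k := k) _
    ((DCoh.sheafHomAdj G).homEquiv (Coh.structureModule X) M ((tensorUnitRightIso G).hom ≫ φ))
  invFun y := (tensorUnitRightIso G).inv ≫ ((DCoh.sheafHomAdj G).homEquiv (Coh.structureModule X) M).symm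
    ((homStructureEquiv (k := k) _).symm y)
  left_inv φ := by simp
  right_inv y := by simp
  map_add' φ χ := by
    rw [Preadditive.comp_add, Adjunction.homEquiv_unit, Adjunction.homEquiv_unit, Adjunction.homEquiv_unit,
      Functor.map_add, Preadditive.comp_add, map_add]
  map_smul' c φ := by
    haveI := linear_sheafHom (k := k) G
    rw [Linear.comp_smul, Adjunction.homEquiv_unit, Adjunction.homEquiv_unit, Functor.map_smul, Linear.comp_smul,
      map_smul, RingHom.id_apply]

theorem homEquivHH_comp {M N : X.Modules} (φ : G ⟶ M) (f : M ⟶ N) :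
    homEquivHH (k := k) G N (φ ≫ f) = hhMap k ((DCoh.sheafHom G).map f) 0 (homEquivHH (k := k) G M φ) := by
  show homStructureEquiv (k := k) _ ((DCoh.sheafHomAdj G).homEquiv _ N ((tensorUnitRightIso G).hom ≫ φ ≫ f)) =
    hhMap k ((DCoh.sheafHom G).map f) 0 (homStructureEquiv (k := k) _ _)
  rw [← homStructureEquiv_comp, ← Category.assoc, Adjunction.homEquiv_naturality_right]

theorem subsingleton_HH_of_injective (I : X.Modules) [Injective I] (j : ℕ) :
    Subsingleton (Coh.HH X I (j + 1)) :=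
  haveI := Cohom.isFlasque_toAb_of_injective I
  SheafCoh.flasque_H_subsingleton ((QCoh.toAbFun X).obj I) j

variable [HasExt.{u} X.Modules] [PreservesFiniteColimits (DCoh.sheafHom G)]
  [(DCoh.sheafHom G).PreservesInjectiveObjects]

/-- `Ext^j(G, M) = H^j(Hom(G, M))`, linearly. -/
theorem nonempty_ext_linearEquiv_HH : ∀ (j : ℕ) (M : X.Modules),
    Nonempty (Ext G M j ≃ₗ[k] Coh.HH X ((DCoh.sheafHom G).obj M) j) := by
  intro j
  induction j with
  | zero => exact fun M => ⟨Ext.linearEquiv₀ ≪≫ₗ homEquivHH G M⟩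
  | succ j ih =>
    intro M
    haveI : EnoughInjectives X.Modules := SheafCoh.enoughInjectives_sheafOfModules X.ringCatSheaf
    let I : InjectivePresentation M := Classical.arbitrary _
    let S := ShortComplex.mk _ _ (cokernel.condition I.f)
    have hS : S.ShortExact := { exact := ShortComplex.exact_cokernel I.f }
    haveI : PreservesFiniteLimits (DCoh.sheafHom G) :=
      haveI := (DCoh.sheafHomAdj G).rightAdjoint_preservesLimits
      inferInstance
    have hS' : (S.map (DCoh.sheafHom G)).ShortExact := hS.map_of_exact _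
    haveI : Injective I.J := I.injective
    haveI : Injective S.X₂ := I.injective
    haveI : Injective ((DCoh.sheafHom G).obj I.J) := Functor.injective_obj _ I.J
    let δE : Ext G S.X₃ j →ₗ[k] Ext G S.X₁ (j + 1) :=
      Ext.postcompOfLinear hS.extClass k G rfl
    have hδE : Function.Surjective δE := fun x =>
      Ext.covariant_sequence_exact₁ _ hS x (Ext.eq_zero_of_injective _) rfl
    let δH := hhDelta k hS' j
    have hδH : Function.Surjective δH := fun x =>
      ((Cohom.exact₁ (A := k) hS' j) x).1 (@Subsingleton.elim _ (subsingleton_HH_of_injective ((DCoh.sheafHom G).obj I.J) j) _ _)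
    rcases Nat.eq_zero_or_pos j with rfl | hj
    · let E₀ : Ext G S.X₃ 0 ≃ₗ[k] Coh.HH X ((DCoh.sheafHom G).obj S.X₃) 0 :=
        Ext.linearEquiv₀ ≪≫ₗ homEquivHH G S.X₃
      refine nonempty_equiv_of_ker_eq' δE (δH ∘ₗ E₀.toLinearMap) hδE (hδH.comp E₀.surjective) (Submodule.ext fun x => ?_)
      obtain ⟨φ, rfl⟩ : ∃ φ, Ext.mk₀ φ = x := (Ext.mk₀_bijective _ _).2 x
      have hE₀ : E₀ (Ext.mk₀ φ) = homEquivHH (k := k) G S.X₃ φ := by
        show homEquivHH (k := k) G S.X₃ (Ext.linearEquiv₀ (R := k) (Ext.mk₀ φ)) = _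
        rw [← Ext.linearEquiv₀_symm_apply (R := k), LinearEquiv.apply_symm_apply]
      show δE (Ext.mk₀ φ) = 0 ↔ δH (E₀ (Ext.mk₀ φ)) = 0
      rw [show δH (E₀ (Ext.mk₀ φ)) = δH (homEquivHH (k := k) G S.X₃ φ) from congrArg δH hE₀]
      constructor
      · intro h
        obtain ⟨z, hz⟩ := Ext.covariant_sequence_exact₃ _ hS (Ext.mk₀ φ) rfl h
        obtain ⟨ψ, rfl⟩ : ∃ ψ, Ext.mk₀ ψ = z := (Ext.mk₀_bijective _ _).2 z
        rw [Ext.mk₀_comp_mk₀] at hz
        rw [← (Ext.mk₀_bijective _ _).1 hz, homEquivHH_comp]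
        exact (Cohom.exact₃ (A := k) hS' 0).apply_apply_eq_zero _
      · intro h
        obtain ⟨w, hw⟩ := ((Cohom.exact₃ (A := k) hS' 0) _).1 h
        obtain ⟨ψ, rfl⟩ := (homEquivHH (k := k) G S.X₂).surjective w
        have e : φ = ψ ≫ S.g := (homEquivHH (k := k) G S.X₃).injective (hw.symm.trans (homEquivHH_comp G ψ S.g).symm)
        show (Ext.mk₀ φ).comp hS.extClass (rfl : 0 + 1 = 0 + 1) = 0
        rw [e, ← Ext.mk₀_comp_mk₀, Ext.comp_assoc_of_second_deg_zero, hS.comp_extClass, Ext.comp_zero]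
    · obtain ⟨q, rfl⟩ : ∃ q, j = q + 1 := ⟨j - 1, by omega⟩
      have hE : Function.Bijective δE := ⟨(injective_iff_map_eq_zero _).2 fun x hx => by
        obtain ⟨z, rfl⟩ := Ext.covariant_sequence_exact₃ _ hS x rfl hx
        rw [Ext.eq_zero_of_injective z, Ext.zero_comp], hδE⟩
      have hH : Function.Bijective δH := ⟨(injective_iff_map_eq_zero _).2 fun x hx => by
        obtain ⟨z, rfl⟩ := ((Cohom.exact₃ (A := k) hS' (q + 1)) x).1 hx
        exact (congrArg _ (@Subsingleton.elim _ (subsingleton_HH_of_injective ((DCoh.sheafHom G).obj I.J) q) z 0)).trans (map_zero _), hδH⟩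
      obtain ⟨e⟩ := ih S.X₃
      exact ⟨(LinearEquiv.ofBijective δE hE).symm ≪≫ₗ e ≪≫ₗ LinearEquiv.ofBijective δH hH⟩

end sheafHom

end GrothLib.SerrePn27
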