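import Groth.Agent.Lib.SerrePn27.ExtHH
import Groth.Agent.Lib.LocFreeDual20.Basic
import Groth.Agent.Lib.ProjFormula.Flasque
import Groth.Agent.Lib.OX.LocFreeTensor

/-! # Ext out of a finite locally free module -/

set_option autoImplicit false
set_option linter.style.haveILetI false
set_option backward.isDefEq.respectTransparency false

universe u

open CategoryTheory CategoryTheory.Limits AlgebraicGeometry
open CategoryTheory.Abelian (Ext)

noncomputable section

namespace GrothLib.SerrePn27

theorem nonempty_ext_linearEquiv_HH_of_finLocFree {k : Type u} [CommRing k] {X : Scheme.{u}}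
    [X.Over (Spec (CommRingCat.of k))] [HasExt.{u} X.Modules] {F : X.Modules} (hF : FlatMod.IsFinLocFree F)
    [DCoh.HasSheafHom F] (j : ℕ) (M : X.Modules) :
    Nonempty (Ext F M j ≃ₗ[k] Coh.HH X ((DCoh.sheafHom F).obj M) j) := by
  haveI : PreservesFiniteColimits (DCoh.sheafHom F) := LocFreeDual20.preservesFiniteColimits_sheafHom hF
  haveI : PreservesFiniteLimits ((DCoh.tensorBi (X := X)).obj F) :=
    ProjFormula.preservesFiniteLimits_tensorBi_obj (OX.flat_of_isFinLocFree hF)
  haveI : (DCoh.sheafHom F).PreservesInjectiveObjects :=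
    Functor.preservesInjectiveObjects_of_adjunction_of_preservesMonomorphisms (DCoh.sheafHomAdj F)
  exact nonempty_ext_linearEquiv_HH F j M

end GrothLib.SerrePn27
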