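import Groth.Agent.Lib.SerrePn27.Top
import Groth.Agent.Lib.SheafCoh.ModUnit
import Groth.Agent.Lib.SheafCoh.ModGroth
import Groth.Agent.Lib.NegTwist.H0
import Mathlib.Algebra.Homology.DerivedCategory.Ext.MapBijective
import Mathlib.Algebra.Homology.DerivedCategory.Ext.Linear

/-! # Serre duality on projective space -/

set_option autoImplicit false
set_option linter.style.haveILetI false
set_option backward.isDefEq.respectTransparency false

universe u

open CategoryTheory CategoryTheory.Limits AlgebraicGeometry TopologicalSpace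
open GrothLib.Cohom (hhMap hhDelta)
open CategoryTheory.Abelian (Ext)

noncomputable section

namespace GrothLib.SerrePn27

section linalg

variable {k A B C : Type u} [CommRing k] [AddCommGroup A] [Module k A] [AddCommGroup B] [Module k B]
  [AddCommGroup C] [Module k C]

theorem nonempty_equiv_of_ker_eq (f : A →ₗ[k] B) (g : A →ₗ[k] C) (hf : Function.Surjective f)
    (hg : Function.Surjective g) (h : LinearMap.ker f = LinearMap.ker g) : Nonempty (B ≃ₗ[k] C) :=
  ⟨(f.quotKerEquivOfSurjective hf).symm ≪≫ₗ Submodule.quotEquivOfEq _ _ h ≪≫ₗ g.quotKerEquivOfSurjective hg⟩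

end linalg

section gen

variable {X : Scheme.{u}} [HasExt.{u} X.Modules]

theorem subsingleton_ext_structure {M : X.Modules} {i : ℕ} (h : Subsingleton (Coh.HH X M i)) :
    Subsingleton (Ext (Coh.structureModule X) M i) := by
  obtain ⟨e⟩ := SheafCoh.nonempty_ext_unit_addEquiv (R := X.ringCatSheaf) M i
  exact @Equiv.subsingleton _ _ e.toEquiv h

theorem subsingleton_ext_of_tensor {L M A B E : X.Modules} (u : CohB1.tensorMod L M ≅ Coh.structureModule X)
    (u' : CohB1.tensorMod M L ≅ Coh.structureModule X) (wA : CohB1.tensorMod (Coh.structureModule X) L ≅ A)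
    (wB : CohB1.tensorMod E L ≅ B) {i : ℕ} (h : Subsingleton (Coh.HH X E i)) : Subsingleton (Ext A B i) := by
  haveI := CurveMult.isEquivalence_tF u u'
  haveI : EnoughInjectives X.Modules := SheafCoh.enoughInjectives_sheafOfModules X.ringCatSheaf
  haveI := subsingleton_ext_structure h
  have hb := Functor.mapExt_bijective_of_preservesInjectiveObjects (Euler.tF L) (Coh.structureModule X) E i
  haveI : Subsingleton (Ext ((Euler.tF L).obj (Coh.structureModule X)) ((Euler.tF L).obj E) i) :=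
    hb.2.subsingleton
  let wA' : (Euler.tF L).obj (Coh.structureModule X) ≅ A := wA
  let wB' : (Euler.tF L).obj E ≅ B := wB
  refine subsingleton_of_forall_eq 0 fun x => ?_
  have h1 : x = (Ext.mk₀ wA'.inv).comp (((Ext.mk₀ wA'.hom).comp x (zero_add i)).comp (Ext.mk₀ wB'.inv) (add_zero i)
      |>.comp (Ext.mk₀ wB'.hom) (add_zero i)) (zero_add i) := by
    rw [Ext.comp_assoc_of_third_deg_zero, Ext.comp_assoc_of_third_deg_zero, Ext.mk₀_comp_mk₀, Iso.inv_hom_id,
      Ext.comp_mk₀_id, Ext.mk₀_comp_mk₀_assoc, Iso.inv_hom_id, Ext.mk₀_id_comp]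
  rw [h1, Subsingleton.elim (((Ext.mk₀ wA'.hom).comp x (zero_add i)).comp (Ext.mk₀ wB'.inv) (add_zero i)) 0,
    Ext.zero_comp, Ext.comp_zero]

theorem subsingleton_ext_sigma {b : ℕ} (M : Fin b → X.Modules) {Y : X.Modules} {i : ℕ}
    (h : ∀ l, Subsingleton (Ext (M l) Y i)) : Subsingleton (Ext (∐ M) Y i) := by
  haveI : HasFiniteBiproducts X.Modules := HasFiniteBiproducts.of_hasFiniteCoproducts
  let π : ∀ l, ∐ M ⟶ M l := fun l => (biproduct.isoCoproduct M).inv ≫ biproduct.π M l
  have htot : ∑ l, π l ≫ Sigma.ι M l = 𝟙 (∐ M) := by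
    have hι : ∀ l, Sigma.ι M l = biproduct.ι M l ≫ (biproduct.isoCoproduct M).hom := fun l => by simp
    simp only [π, hι, Category.assoc, ← Preadditive.comp_sum]
    simp only [← Category.assoc (biproduct.π M _), ← Preadditive.sum_comp]
    rw [biproduct.total, Category.id_comp, Iso.inv_hom_id]
  refine subsingleton_of_forall_eq 0 fun x => ?_
  rw [← Ext.mk₀_id_comp x, ← htot, Ext.mk₀_sum, Ext.sum_comp]
  refine Finset.sum_eq_zero fun l _ => ?_
  rw [← Ext.mk₀_comp_mk₀_assoc, Subsingleton.elim ((Ext.mk₀ (Sigma.ι M l)).comp x (zero_add i)) 0, Ext.comp_zero]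

end gen

variable {n : ℕ} {k : Type u} [Field k] [HasExt.{u} (CohB1.ProjSpace n k).Modules]

local notation "Pn" => CohB1.ProjSpace n k
local notation "ω₀" => Twist.twistProjSpace n k (-((n : ℤ) + 1))

theorem subsingleton_ext_twist {s : ℤ} (hs : s ≤ -1) {i : ℕ} (hi : 1 ≤ i) :
    Subsingleton (Ext (Twist.twistProjSpace n k s) ω₀ i) := by
  obtain ⟨e0⟩ := CMReg.nonempty_twist_zero (n := n) (k := k)
  obtain ⟨u⟩ := CMReg.nonempty_twist_add (n := n) (k := k) (add_neg_cancel s)
  obtain ⟨u'⟩ := CMReg.nonempty_twist_add (n := n) (k := k) (neg_add_cancel s)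
  obtain ⟨w⟩ := CMReg.nonempty_twist_add (n := n) (k := k)
    (show (-((n : ℤ) + 1) - s) + s = -((n : ℤ) + 1) by ring)
  exact subsingleton_ext_of_tensor (X := CohB1.ProjSpace n k) (L := Twist.twistProjSpace n k s)
    (M := Twist.twistProjSpace n k (-s)) (A := Twist.twistProjSpace n k s) (B := Twist.twistProjSpace n k (-((n : ℤ) + 1)))
    (E := Twist.twistProjSpace n k (-((n : ℤ) + 1) - s)) (u ≪≫ e0) (u' ≪≫ e0)
    (OX.tensorUnitLeftIso (X := CohB1.ProjSpace n k) (Twist.twistProjSpace n k s)) w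
    (ProjCohom.subsingleton_HH (n := n) (R := k) (by omega) (by omega))

theorem subsingleton_ext_sumTwist (b : ℕ) {s : ℤ} (hs : s ≤ -1) {i : ℕ} (hi : 1 ≤ i) :
    Subsingleton (Ext (CMReg.sumTwist n k b s) ω₀ i) :=
  subsingleton_ext_sigma _ fun _ => subsingleton_ext_twist hs hi

omit [HasExt.{u} (CohB1.ProjSpace n k).Modules] in
theorem subsingleton_HH_sumTwist (b : ℕ) {s : ℤ} (hs : s ≤ -1) {j : ℕ} (hj : j < n) :
    Subsingleton (Coh.HH (CohB1.ProjSpace n k) (CMReg.sumTwist n k b s) j) :=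
  CMReg.subsingleton_HH_sigma _ fun _ => ProjCohom.subsingleton_HH (n := n) (R := k) (by omega) (by omega)

variable (t : Coh.HH (CohB1.ProjSpace n k) (Twist.twistProjSpace n k (-((n : ℤ) + 1))) n ≃ₗ[k] k)

/-- Duality in degree zero. -/
def ext0Equiv {F : (CohB1.ProjSpace n k).Modules} (hF : Coh.IsCoh F) :
    Ext F ω₀ 0 ≃ₗ[k] Module.Dual k (Coh.HH (CohB1.ProjSpace n k) F n) :=
  Ext.linearEquiv₀ ≪≫ₗ LinearEquiv.ofBijective _ (bijective_theta t hF)

theorem ext0Equiv_mk₀ {F : (CohB1.ProjSpace n k).Modules} (hF : Coh.IsCoh F) (φ : F ⟶ ω₀) :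
    ext0Equiv t hF (Ext.mk₀ φ) = theta t.toLinearMap F φ := by
  show theta t.toLinearMap F (Ext.linearEquiv₀ (R := k) (Ext.mk₀ φ)) = _
  rw [← Ext.linearEquiv₀_symm_apply (R := k), LinearEquiv.apply_symm_apply]

section step

variable {S : ShortComplex (CohB1.ProjSpace n k).Modules} (hS : S.ShortExact)
  (hK : Coh.IsCoh S.X₁) (hP : Coh.IsCoh S.X₂)

/-- The connecting map of the contravariant sequence. -/
def extDelta (i : ℕ) : Ext S.X₁ ω₀ i →ₗ[k] Ext S.X₃ ω₀ (i + 1) :=
  Ext.precompOfLinear hS.extClass k ω₀ (Nat.add_comm 1 i)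

theorem surjective_extDelta (i : ℕ) (h : Subsingleton (Ext S.X₂ ω₀ (i + 1))) :
    Function.Surjective (extDelta hS i) := fun x =>
  Ext.contravariant_sequence_exact₃ hS _ x (Subsingleton.elim _ _) (Nat.add_comm 1 i)

theorem injective_extDelta (i : ℕ) (h : Subsingleton (Ext S.X₂ ω₀ i)) :
    Function.Injective (extDelta hS i) := (injective_iff_map_eq_zero _).2 fun x hx => by
  obtain ⟨z, rfl⟩ := Ext.contravariant_sequence_exact₁ hS _ x (Nat.add_comm 1 i) hx
  rw [Subsingleton.elim z 0, Ext.comp_zero]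

include hP in
theorem extDelta_eq_zero_iff (x : Ext S.X₁ ω₀ 0) :
    extDelta hS 0 x = 0 ↔ ext0Equiv t hK x ∈ LinearMap.range (hhMap k S.f n).dualMap := by
  constructor
  · intro hx
    obtain ⟨z, rfl⟩ := Ext.contravariant_sequence_exact₁ hS _ x (Nat.add_comm 1 0) hx
    obtain ⟨φ, rfl⟩ : ∃ φ, Ext.mk₀ φ = z := (Ext.mk₀_bijective _ _).2 z
    refine ⟨ext0Equiv t hP (Ext.mk₀ φ), ?_⟩
    rw [Ext.mk₀_comp_mk₀, ext0Equiv_mk₀, ext0Equiv_mk₀, theta_comp]
    rfl
  · rintro ⟨ψ, hψ⟩
    obtain ⟨φ, hφ⟩ := (bijective_theta t hP).2 ψ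
    have h : x = Ext.mk₀ (S.f ≫ φ) := by
      refine (ext0Equiv t hK).injective ?_
      rw [ext0Equiv_mk₀, theta_comp, hφ, ← hψ]
      rfl
    rw [h, ← Ext.mk₀_comp_mk₀]
    exact hS.extClass_comp_assoc (h := Nat.add_comm 1 0) (Ext.mk₀ φ)

include hS hK hP t in
theorem nonempty_ext_one_equiv {m : ℕ} (hm : m + 1 = n) (hx : Subsingleton (Ext S.X₂ ω₀ 1))
    (hh : Subsingleton (Coh.HH (CohB1.ProjSpace n k) S.X₂ m)) :
    Nonempty (Ext S.X₃ ω₀ 1 ≃ₗ[k] Module.Dual k (Coh.HH (CohB1.ProjSpace n k) S.X₃ m)) := by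
  subst hm
  have hδ : Function.Injective (hhDelta k hS m) := (injective_iff_map_eq_zero _).2 fun x hx => by
    obtain ⟨z, rfl⟩ := ((Cohom.exact₃ (A := k) hS m) x).1 hx
    rw [Subsingleton.elim z 0, map_zero]
  refine nonempty_equiv_of_ker_eq (extDelta hS 0) ((hhDelta k hS m).dualMap ∘ₗ (ext0Equiv t hK).toLinearMap)
    (surjective_extDelta hS 0 hx) ((LinearMap.dualMap_surjective_of_injective hδ).comp (ext0Equiv t hK).surjective)
    (Submodule.ext fun x => ?_)
  rw [LinearMap.mem_ker, extDelta_eq_zero_iff t hS hK hP, LinearMap.mem_ker, LinearMap.comp_apply]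
  constructor
  · rintro ⟨ψ, hψ⟩
    refine LinearMap.ext fun y => ?_
    show ext0Equiv t hK x (hhDelta k hS m y) = 0
    rw [← hψ]
    show ψ (hhMap k S.f (m + 1) (hhDelta k hS m y)) = 0
    rw [(Cohom.exact₁ (A := k) hS m).apply_apply_eq_zero, map_zero]
  · intro h
    rw [LinearMap.range_dualMap_eq_dualAnnihilator_ker, Submodule.mem_dualAnnihilator]
    intro y hy
    obtain ⟨z, rfl⟩ := ((Cohom.exact₁ (A := k) hS m) y).1 (LinearMap.mem_ker.1 hy)
    exact LinearMap.congr_fun h z

include hS hK hP t in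
theorem subsingleton_ext_one (hn : n = 0) (hx : Subsingleton (Ext S.X₂ ω₀ 1)) :
    Subsingleton (Ext S.X₃ ω₀ 1) := by
  subst hn
  haveI := hS.mono_f
  refine subsingleton_of_forall_eq 0 fun z => ?_
  obtain ⟨x, rfl⟩ := surjective_extDelta hS 0 hx z
  exact (extDelta_eq_zero_iff t hS hK hP x).2
    (LinearMap.dualMap_surjective_of_injective (NegTwist.injective_hhMap_zero k S.f) _)

end step

/-- **Serre duality on projective space.** -/
theorem duality (i : ℕ) : ∀ (F : (CohB1.ProjSpace n k).Modules), Coh.IsCoh F →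
    (i ≤ n → Nonempty (Ext F ω₀ i ≃ₗ[k] Module.Dual k (Coh.HH (CohB1.ProjSpace n k) F (n - i)))) ∧
      (n < i → Subsingleton (Ext F ω₀ i)) := by
  obtain ⟨t⟩ := nonempty_traceEquiv n k
  induction i with
  | zero => exact fun F hF => ⟨fun _ => ⟨ext0Equiv t hF⟩, fun h => absurd h (Nat.not_lt_zero n)⟩
  | succ i ih =>
    intro F hF
    obtain ⟨b, s, p, hs, hp, hK⟩ := exists_twist_presentation hF (-1)
    haveI := hp
    have hS : (ShortComplex.mk (kernel.ι p) p (kernel.condition p)).ShortExact :=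
      { exact := ShortComplex.exact_of_f_is_kernel _ (kernelIsKernel p) }
    have hP := CMReg.isCoh_sumTwist (n := n) (k := k) b s
    have hxP : ∀ j, 1 ≤ j → Subsingleton (Ext (CMReg.sumTwist n k b s) ω₀ j) := fun j =>
      subsingleton_ext_sumTwist b hs
    rcases Nat.eq_zero_or_pos i with rfl | hi
    · refine ⟨fun hn => ?_, fun hn => subsingleton_ext_one t hS hK hP (by omega) (hxP 1 le_rfl)⟩
      obtain ⟨m, hm⟩ : ∃ m, m + 1 = n := ⟨n - 1, by omega⟩
      obtain ⟨e⟩ := nonempty_ext_one_equiv t hS hK hP hm (hxP 1 le_rfl) (subsingleton_HH_sumTwist b hs (by omega))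
      rw [show n - (0 + 1) = m by omega]
      exact ⟨e⟩
    · have hb : Function.Bijective (extDelta hS i) :=
        ⟨injective_extDelta hS i (hxP i hi), surjective_extDelta hS i (hxP (i + 1) (by omega))⟩
      obtain ⟨hK1, hK2⟩ := ih (kernel p) hK
      refine ⟨fun hn => ?_, fun hn => ?_⟩
      · obtain ⟨e⟩ := hK1 (by omega)
        obtain ⟨m, hm, hm'⟩ : ∃ m, n - i = m + 1 ∧ m + 1 < n := ⟨n - i - 1, by omega, by omega⟩
        rw [hm] at e
        have hδ : Function.Bijective (hhDelta k hS m) := by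
          haveI := subsingleton_HH_sumTwist (n := n) (k := k) b hs (j := m) (by omega)
          haveI := subsingleton_HH_sumTwist (n := n) (k := k) b hs hm'
          refine ⟨(injective_iff_map_eq_zero _).2 fun x hx => ?_, fun y => ?_⟩
          · obtain ⟨z, rfl⟩ := ((Cohom.exact₃ (A := k) hS m) x).1 hx
            rw [Subsingleton.elim z 0, map_zero]
          · exact ((Cohom.exact₁ (A := k) hS m) y).1 (Subsingleton.elim _ _)
        rw [show n - (i + 1) = m by omega]
        exact ⟨(LinearEquiv.ofBijective _ hb).symm ≪≫ₗ e ≪≫ₗ (LinearEquiv.ofBijective _ hδ).dualMap⟩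
      · haveI : Subsingleton (Ext (kernel p) ω₀ i) := by
          rcases Nat.lt_or_ge n i with h | h
          · exact hK2 h
          · obtain ⟨e⟩ := hK1 h
            haveI : Subsingleton (Coh.HH (CohB1.ProjSpace n k) (kernel p) (n - i)) := by
              rw [show n - i = 0 by omega]
              haveI := subsingleton_HH_sumTwist (n := n) (k := k) b hs (j := 0) (by omega)
              exact (NegTwist.injective_hhMap_zero k (kernel.ι p)).subsingleton
            exact e.toEquiv.subsingleton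
        exact hb.2.subsingleton

end GrothLib.SerrePn27
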