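import Groth.Agent.Lib.SerrePn27.ExtAsymp
import Groth.Agent.Lib.SerreVanish.Ample
import Groth.Agent.Lib.RelProjK.Amp
import Groth.Agent.Lib.RelProjK.Local
import Groth.Agent.Lib.OX.PullbackTensor
import Groth.Agent.Lib.LocZ.Excision
import Groth.Agent.Lib.Chow.Prod

/-! # Twists on a projective scheme, Serre vanishing, and twisting the second variable of the Ext sheaves -/

set_option autoImplicit false
set_option linter.style.haveILetI false
set_option backward.isDefEq.respectTransparency false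

universe u

open CategoryTheory CategoryTheory.Limits AlgebraicGeometry TopologicalSpace

noncomputable section

namespace GrothLib.SerrePn27

variable {n : ℕ} {A : Type u} [CommRing A]

/-- `ι^* O(d)`. -/
abbrev Oi {X : Scheme.{u}} (i : X ⟶ CohB1.ProjSpace n A) (d : ℤ) : X.Modules :=
  (Scheme.Modules.pullback i).obj (Twist.twistProjSpace n A d)

theorem exists_notMem' (p : Proj (CohB1.polyGrading n A)) :
    ∃ f, f ∈ CohB1.polyGrading n A 1 ∧ f ∉ p.asHomogeneousIdeal := by
  obtain ⟨i, hi⟩ := Opens.mem_iSup.mp ((Ample.ProjMap.iSup_basicOpen_X n A).ge (Opens.mem_top p))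
  exact ⟨_, Ample.ProjMap.X_mem i, hi⟩

variable {X : Scheme.{u}} (i : X ⟶ CohB1.ProjSpace n A)

theorem nonempty_Oi_add {a b c : ℤ} (h : a + b = c) :
    Nonempty (CohB1.tensorMod (Oi i a) (Oi i b) ≅ Oi i c) := by
  subst h
  obtain ⟨e⟩ := GrTilde.nonempty_twist_tensor_twist (𝒜 := CohB1.polyGrading n A) exists_notMem' a b
  exact ⟨(OX.pullTensorIso i (Twist.twistProjSpace n A a) (Twist.twistProjSpace n A b)).symm ≪≫
    (Scheme.Modules.pullback i).mapIso e⟩

theorem nonempty_Oi_zero : Nonempty (Oi i 0 ≅ Coh.structureModule X) := by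
  obtain ⟨e⟩ := GrTilde.nonempty_structureModule_iso_twist_zero (CohB1.polyGrading n A)
  exact ⟨(Scheme.Modules.pullback i).mapIso e.symm ≪≫ OX.pullUnitIso i⟩

theorem isInvertible_Oi (d : ℤ) : PicF.IsInvertible (Oi i d) :=
  RelProjK.isInvertible_pullback i (GrTilde.isInvertible_twist (𝒜 := CohB1.polyGrading n A) exists_notMem' d)

theorem nonempty_Oi_tensorPow : ∀ d : ℕ, Nonempty (CohB1.tensorPow (Oi i 1) d ≅ Oi i (d : ℤ)) := by
  intro d
  induction d with
  | zero => exact (nonempty_Oi_zero i).map Iso.symm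
  | succ d ih =>
    obtain ⟨e⟩ := ih
    obtain ⟨t⟩ := nonempty_Oi_add i (a := (d : ℤ)) (b := 1) (c := ((d + 1 : ℕ) : ℤ)) (by push_cast; rfl)
    exact ⟨Ample.LineData.tensorModMapIso e (Iso.refl _) ≪≫ t⟩

theorem exists_twist_vanish [IsNoetherianRing A] [X.Over (Spec (CommRingCat.of A))] [IsClosedImmersion i]
    (hi : i ≫ CohB1.ProjSpace.toSpec n A = X ↘ Spec (CommRingCat.of A)) {M : X.Modules} (hM : Coh.IsCoh M) :
    ∃ d₀ : ℕ, ∀ d : ℤ, (d₀ : ℤ) ≤ d → HAcyclic (CohB1.tensorMod M (Oi i d)) := by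
  haveI := Chow.isProper_toSpec n A
  haveI : IsProper (X ↘ Spec (CommRingCat.of A)) := by rw [← hi]; infer_instance
  haveI : CompactSpace X := QuasiCompact.compactSpace_of_compactSpace (X ↘ Spec (CommRingCat.of A))
  have hA : CohB1.IsAmple (Oi i 1) :=
    RelProjK.isAmple_pullback_twist_of_isEmbedding i i.isClosedEmbedding.isEmbedding exists_notMem'
  obtain ⟨d₀, hd₀⟩ := SerreVanish.exists_forall_subsingleton (X := X) A hA hM
  refine ⟨d₀, fun d hd p => ?_⟩
  obtain ⟨e⟩ := nonempty_Oi_tensorPow i d.toNat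
  haveI := hd₀ d.toNat (by omega) (p + 1) (Nat.succ_pos p)
  rw [show d = ((d.toNat : ℕ) : ℤ) by omega]
  exact (hhMapEquiv (k := A) (Ample.LineData.tensorModMapIso (Iso.refl M) e) (p + 1)).symm.toEquiv.subsingleton

section extTwist

variable {X : Scheme.{u}}

theorem nonempty_extSh_twist {L M : X.Modules} (u : CohB1.tensorMod L M ≅ Coh.structureModule X)
    (u' : CohB1.tensorMod M L ≅ Coh.structureModule X) (F G : X.Modules)
    [ModSite.HasSheafHom (O := X.sheaf) F] [HasInjectiveResolutions (ModSite.Mod X.sheaf)] (q : ℕ) :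
    Nonempty ((ModSite.extSh (O := X.sheaf) F q).obj (CohB1.tensorMod G L) ≅
      CohB1.tensorMod ((ModSite.extSh (O := X.sheaf) F q).obj G) L) := by
  haveI : HasInjectiveResolutions X.Modules := ‹HasInjectiveResolutions (ModSite.Mod X.sheaf)›
  let E := CategoryTheory.Equivalence.mk (Euler.tF L) (Euler.tF M) (CurveMult.twistInverseIso u).symm
    (CurveMult.twistInverseIso u')
  haveI : (Euler.tF L).IsEquivalence := E.isEquivalence_functor
  haveI : DCoh.HasSheafHom F := LocFreeHom.hasSheafHom F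
  let D : X.Modules ⥤ X.Modules := DCoh.sheafHom F
  let adjD : (DCoh.tensorBi (X := X)).obj F ⊣ D := DCoh.sheafHomAdj F
  haveI : D.Additive := additive_sheafHom F
  let adjL : Euler.tF M ⊣ Euler.tF L := E.symm.toAdjunction
  let hLM : Euler.tF M ⋙ (DCoh.tensorBi (X := X)).obj F ≅ (DCoh.tensorBi (X := X)).obj F ⋙ Euler.tF M :=
    Functor.isoWhiskerLeft _ ((OX.tensorBraiding (X := X)).app F).symm ≪≫ LocFreeDual20.flipCompIso M F ≪≫
      (DCoh.tensorBi (X := X)).flip.mapIso (((OX.tensorBraiding (X := X)).app F).app M : _) ≪≫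
      (LocFreeDual20.flipCompIso F M).symm ≪≫ Functor.isoWhiskerRight ((OX.tensorBraiding (X := X)).app F) _
  let τ : D ⋙ Euler.tF L ≅ Euler.tF L ⋙ D :=
    (((adjL.comp adjD).ofNatIsoLeft hLM).rightAdjointUniq (adjD.comp adjL))
  haveI : (Euler.tF L).Additive := inferInstance
  haveI : (ModSite.sheafHom (O := X.sheaf) F : X.Modules ⥤ X.Modules).Additive :=
    Functor.additive_of_iso (LocFreeDual20.siteHomIso F).symm
  let a : (ModSite.extSh (O := X.sheaf) F q : X.Modules ⥤ X.Modules) ≅ D.rightDerived q :=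
    SheafCoh.rightDerivedCongr (LocFreeDual20.siteHomIso F) q
  haveI := Functor.preservesHomologyOfExact (Euler.tF L)
  exact ⟨a.app _ ≪≫
    (LocZ.rightDerivedPreExactIso (Euler.tF L) (fun I hI => Functor.injective_obj_of_injective _ hI) D q).app G ≪≫
    (SheafCoh.rightDerivedCongr τ q).symm.app G ≪≫
    ((ModSupp25.rightDerivedPostIso D (Euler.tF L) q).app G).symm ≪≫ (Euler.tF L).mapIso (a.app G).symm⟩

end extTwist

end GrothLib.SerrePn27
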