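import Groth.Agent.Lib.SerrePn27.ExtLarge
import Groth.Agent.Lib.SerrePn27.Ext
import Groth.Agent.Lib.DualTF27.Bridge
import Groth.Agent.Lib.OX.Exact
import Groth.Agent.S11323

/-! # Vanishing of cohomology in very negative twists on projective space -/

set_option autoImplicit false
set_option linter.style.haveILetI false
set_option backward.isDefEq.respectTransparency false

universe u

open CategoryTheory CategoryTheory.Limits AlgebraicGeometry TopologicalSpace
open GrothLib.Cohom (hhMap)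
open CategoryTheory.Abelian (Ext)

noncomputable section

namespace GrothLib.SerrePn27

open GrothLib.ExtTilde20 (pt ringEquiv stalkModIso)

theorem subsingleton_ext_iff_of_iso {C : Type*} [Category C] [CategoryTheory.Abelian C] [HasExt.{u} C] {A A' B B' : C}
    (a : A ≅ A') (b : B ≅ B') (i : ℕ) : Subsingleton (Ext A B i) ↔ Subsingleton (Ext A' B' i) := by
  suffices h : ∀ {A A' B B' : C} (a : A ≅ A') (b : B ≅ B'), Subsingleton (Ext A B i) → Subsingleton (Ext A' B' i) from
    ⟨h a b, h a.symm b.symm⟩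
  intro A A' B B' a b h
  refine subsingleton_of_forall_eq 0 fun x => ?_
  have h1 : x = (Ext.mk₀ a.inv).comp (((Ext.mk₀ a.hom).comp x (zero_add i)).comp (Ext.mk₀ b.inv) (add_zero i)
      |>.comp (Ext.mk₀ b.hom) (add_zero i)) (zero_add i) := by
    rw [Ext.comp_assoc_of_third_deg_zero, Ext.comp_assoc_of_third_deg_zero, Ext.mk₀_comp_mk₀, Iso.inv_hom_id,
      Ext.comp_mk₀_id, Ext.mk₀_comp_mk₀_assoc, Iso.inv_hom_id, Ext.mk₀_id_comp]
  rw [h1, Subsingleton.elim (((Ext.mk₀ a.hom).comp x (zero_add i)).comp (Ext.mk₀ b.inv) (add_zero i)) 0,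
    Ext.zero_comp, Ext.comp_zero]

theorem isZero_of_spanned {X : Scheme.{u}} {M : X.Modules} (hM : CMReg.Spanned M)
    (h : Subsingleton (Coh.HH X M 0)) : IsZero M := by
  haveI : Subsingleton Γ(M, ⊤) := (ProjCoh.H0top M).symm.toEquiv.subsingleton
  refine (OX.isZero_iff M).2 fun x => ModuleCat.isZero_iff_subsingleton.2 (subsingleton_of_forall_eq 0 fun e => ?_)
  obtain ⟨O, hx, m, rfl⟩ := OX.germ_exists (DCoh.toP.obj M) e
  obtain ⟨W, hW, hxW, hm⟩ := hM O m x hx
  have h0 : InvExt.mres M hW m = 0 := by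
    refine (Submodule.mem_bot Γ(X, W)).1 (Submodule.span_le.2 ?_ hm)
    rintro _ ⟨s, rfl⟩
    show InvExt.mres M _ s ∈ (⊥ : Submodule Γ(X, W) Γ(M, W))
    exact (Submodule.mem_bot _).2 ((congrArg (fun v => InvExt.mres M _ v) (Subsingleton.elim s 0)).trans (map_zero _))
  refine (OX.germ_map (DCoh.toP.obj M) (homOfLE hW) hxW m).symm.trans ?_
  exact (congrArg (OX.germ (DCoh.toP.obj M) W hxW) h0).trans (map_zero _)

theorem subsingleton_HH_of_isZero {k : Type u} [CommRing k] {X : Scheme.{u}} [X.Over (Spec (CommRingCat.of k))]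
    {M : X.Modules} (h : IsZero M) (i : ℕ) : Subsingleton (Coh.HH X M i) :=
  subsingleton_of_forall_eq 0 fun x => by
    have h1 := (hhMapEquiv (k := k) (h.iso (isZero_zero X.Modules)) i).injective
    refine h1 ?_
    show hhMap k _ i x = hhMap k _ i 0
    rw [(isZero_zero X.Modules).eq_of_tgt (h.iso (isZero_zero X.Modules)).hom 0, hhMap_zero,
      LinearMap.zero_apply, LinearMap.zero_apply]

variable {r : ℕ} {k : Type u} [Field k]

local notation "Pn" => CohB1.ProjSpace r k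
local notation "ω₀" => Twist.twistProjSpace r k (-((r : ℤ) + 1))

theorem nonempty_Ft_Ft_cancel (F : (CohB1.ProjSpace r k).Modules) {a b : ℤ} (h : a + b = 0) :
    Nonempty (CMReg.Ft (CMReg.Ft F a) b ≅ F) := by
  obtain ⟨e2⟩ := CMReg.nonempty_Ft_Ft F a b 0 h
  obtain ⟨e3⟩ := CMReg.nonempty_twist_zero (n := r) (k := k)
  exact ⟨e2 ≪≫ Ample.LineData.tensorModMapIso (Iso.refl F) e3 ≪≫
    GrTilde.tensorModComm (X := CohB1.ProjSpace r k) _ _ ≪≫ OX.tensorUnitLeftIso _⟩

theorem isZero_Ft {F : (CohB1.ProjSpace r k).Modules} (h : IsZero F) (a : ℤ) : IsZero (CMReg.Ft F a) :=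
  Functor.map_isZero (CMReg.ftFun (n := r) (k := k) a) h

theorem subsingleton_HH_Ft_iff_ext {F : (CohB1.ProjSpace r k).Modules} (hF : Coh.IsCoh F)
    [HasExt.{u} (CohB1.ProjSpace r k).Modules] {i j : ℕ} (hij : i + j = r) (a b : ℤ) (hab : a + b = 0) :
    Subsingleton (Coh.HH Pn (CMReg.Ft F a) i) ↔ Subsingleton (Ext F (CMReg.Ft ω₀ b) j) := by
  haveI : EnoughInjectives (CohB1.ProjSpace r k).Modules := SheafCoh.enoughInjectives_sheafOfModules (CohB1.ProjSpace r k).ringCatSheaf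
  obtain ⟨u⟩ := CMReg.nonempty_twist_add (n := r) (k := k) (show b + a = 0 by omega)
  obtain ⟨u'⟩ := CMReg.nonempty_twist_add (n := r) (k := k) hab
  obtain ⟨e0⟩ := CMReg.nonempty_twist_zero (n := r) (k := k)
  haveI := CurveMult.isEquivalence_tF (X := CohB1.ProjSpace r k) (u ≪≫ e0) (u' ≪≫ e0)
  obtain ⟨e⟩ := (duality (n := r) (k := k) j (CMReg.Ft F a) (CMReg.isCoh_Ft hF a)).1 (by omega)
  rw [show r - j = i by omega] at e
  haveI := CMReg.finiteDimensional_Ft hF a i
  rw [← Module.subsingleton_dual_iff k, ← e.toEquiv.subsingleton_congr]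
  have hb := Functor.mapExt_bijective_of_preservesInjectiveObjects
    (Euler.tF (Twist.twistProjSpace r k b)) (CMReg.Ft F a) ω₀ j
  obtain ⟨c⟩ := nonempty_Ft_Ft_cancel F hab
  rw [(Equiv.ofBijective _ hb).subsingleton_congr]
  exact subsingleton_ext_iff_of_iso c (Iso.refl _) j

/-- Asymptotic vanishing of cohomology is the vanishing of an Ext sheaf. -/
theorem vanish_iff_isZero_extSh {F : (CohB1.ProjSpace r k).Modules} (hF : Coh.IsCoh F)
    [ModSite.HasSheafHom (O := (CohB1.ProjSpace r k).sheaf) F]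
    [HasInjectiveResolutions (ModSite.Mod (CohB1.ProjSpace r k).sheaf)] {i j : ℕ} (hij : i + j = r) :
    (∃ m₀ : ℤ, ∀ m : ℤ, m₀ ≤ m → Subsingleton (Coh.HH Pn (CMReg.Ft F (-m)) i)) ↔
      IsZero ((ModSite.extSh (O := (CohB1.ProjSpace r k).sheaf) F j).obj ω₀) := by
  haveI : EnoughInjectives (CohB1.ProjSpace r k).Modules := SheafCoh.enoughInjectives_sheafOfModules (CohB1.ProjSpace r k).ringCatSheaf
  haveI : HasExt.{u} (CohB1.ProjSpace r k).Modules := ModSupp25.hasExt_mod (CohB1.ProjSpace r k).sheaf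
  have hω : Coh.IsCoh ω₀ := Euler.isCoh_of_isInvertible (CMReg.isInvertible_twist _)
  set E := (ModSite.extSh (O := (CohB1.ProjSpace r k).sheaf) F j).obj ω₀ with hE
  have hEcoh : Coh.IsCoh E := Groth.Agent.S10943.result _ F ω₀ hF hω j
  obtain ⟨d₀, hd₀⟩ := exists_ext_linearEquiv_extSh_twist (𝟙 (CohB1.ProjSpace r k))
    (Category.id_comp _) hF hω j
  have key : ∀ d : ℤ, (d₀ : ℤ) ≤ d →
      (Subsingleton (Coh.HH Pn (CMReg.Ft F (-d)) i) ↔ Subsingleton (Coh.HH Pn (CMReg.Ft E d) 0)) := by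
    intro d hd
    obtain ⟨-, ⟨e⟩⟩ := hd₀ d hd
    let w : Oi (𝟙 (CohB1.ProjSpace r k)) d ≅ Twist.twistProjSpace r k d :=
      (Scheme.Modules.pullbackId (CohB1.ProjSpace r k)).app _
    obtain ⟨u⟩ := CMReg.nonempty_twist_add (n := r) (k := k) (add_neg_cancel d)
    obtain ⟨u'⟩ := CMReg.nonempty_twist_add (n := r) (k := k) (neg_add_cancel d)
    obtain ⟨e0⟩ := CMReg.nonempty_twist_zero (n := r) (k := k)
    obtain ⟨t⟩ := nonempty_extSh_twist (u ≪≫ e0) (u' ≪≫ e0) F ω₀ j
    let w' : CohB1.tensorMod ω₀ (Oi (𝟙 (CohB1.ProjSpace r k)) d) ≅ CMReg.Ft ω₀ d :=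
      Ample.LineData.tensorModMapIso (Iso.refl _) w
    rw [subsingleton_HH_Ft_iff_ext hF hij (-d) d (neg_add_cancel d),
      ← subsingleton_ext_iff_of_iso (Iso.refl F) w' j, e.toEquiv.subsingleton_congr]
    exact (hhMapEquiv (k := k) ((ModSite.extSh (O := (CohB1.ProjSpace r k).sheaf) F j).mapIso w' ≪≫ t) 0).toEquiv.subsingleton_congr
  constructor
  · rintro ⟨m₀, hm₀⟩
    obtain ⟨t₀, ht₀⟩ := CMReg.spanned_eventually hEcoh
    let d := max (max m₀ t₀) (d₀ : ℤ)
    have h1 := isZero_of_spanned (ht₀ d (le_max_of_le_left (le_max_right _ _)))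
      ((key d (le_max_right _ _)).1 (hm₀ d (le_max_of_le_left (le_max_left _ _))))
    obtain ⟨c⟩ := nonempty_Ft_Ft_cancel E (add_neg_cancel d)
    exact (isZero_Ft h1 (-d)).of_iso c.symm
  · intro h
    exact ⟨d₀, fun m hm => (key m hm).2 (subsingleton_HH_of_isZero (k := k) (isZero_Ft h m) 0)⟩

/-- The Ext sheaf into an invertible module vanishes iff the Ext modules of the stalks do. -/
theorem isZero_extSh_iff_stalk {X : Scheme.{u}} [IsNoetherian X] {F W : X.Modules} (hF : Coh.IsCoh F)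
    (hW : FlatMod.IsFinLocFreeOfRank 1 W) [ModSite.HasSheafHom (O := X.sheaf) F]
    [HasInjectiveResolutions (ModSite.Mod X.sheaf)] (j : ℕ) :
    IsZero ((ModSite.extSh (O := X.sheaf) F j).obj W) ↔ ∀ x : X, Subsingleton
      (Ext (ModuleCat.of (X.presheaf.stalk x) (F.presheaf.stalk x))
        (ModuleCat.of (X.presheaf.stalk x) (X.presheaf.stalk x)) j) := by
  rw [OX.isZero_iff]
  refine forall_congr' fun x => ?_
  obtain ⟨a⟩ := Groth.Agent.S11323.result X F W hF x j
  obtain ⟨w⟩ := DualTF27.nonempty_stalk_iso_of_rank_one hW x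
  rw [ModuleCat.isZero_iff_subsingleton]
  refine (Equiv.ofBijective _ (ExtTilde20.bijective_modTo x _)).symm.subsingleton_congr.trans
    (a.toEquiv.subsingleton_congr.trans ?_)
  rw [subsingleton_ext_iff_of_iso (stalkModIso x F)
    (stalkModIso x W ≪≫ (ModuleCat.restrictScalars (ringEquiv x).toRingHom).mapIso w) j]
  have hb := Functor.mapExt_bijective_of_preservesInjectiveObjects
    (ModuleCat.restrictScalars.{u} (ringEquiv x).toRingHom)
    ((OX.stalk x).obj F) (ModuleCat.of (X.presheaf.stalk x) (X.presheaf.stalk x)) j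
  exact (Equiv.ofBijective _ hb).subsingleton_congr.symm

end GrothLib.SerrePn27
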