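import Groth.Agent.Lib.SerrePn27.Asymp
import Groth.Agent.Lib.Serre.ExtSelf
import Groth.Agent.Lib.AusBuch.Basic
import Groth.Agent.Lib.CodimExt27.Basic
import Groth.Agent.Lib.DualTF27.Proj
import Groth.Agent.Lib.AffDom.FibreDim
import Groth.Agent.Lib.QCoh.SupportExact
import Groth.Agent.Lib.CMFree.FiniteFlat

/-! # Vanishing of Ext sheaves into a twist and depth at closed points -/

set_option autoImplicit false
set_option linter.style.haveILetI false
set_option backward.isDefEq.respectTransparency false

universe u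

open CategoryTheory CategoryTheory.Limits AlgebraicGeometry TopologicalSpace IsLocalRing
open CategoryTheory.Abelian (Ext)

noncomputable section

namespace GrothLib.SerrePn27

/-- Over a regular local ring, `Ext^j(M, R)` vanishes above `c` iff the depth is at least `dim R - c`. -/
theorem ext_self_vanish_iff_le_depth {R : Type u} [CommRing R] [IsRegularLocalRing R] {N : ℕ}
    (hN : ringKrullDim R = N) (M : Type u) [AddCommGroup M] [Module R M] [Module.Finite R M] (c : ℕ) :
    (∀ j, c < j → Subsingleton (Ext (ModuleCat.of R M) (ModuleCat.of R R) j)) ↔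
      (N : ℕ∞) ≤ (c : ℕ∞) + LocCoh.depth R M := by
  classical
  rcases subsingleton_or_nontrivial M with hM | hM
  · refine iff_of_true (fun j _ => ?_) ?_
    · refine subsingleton_of_forall_eq 0 fun x => ?_
      rw [← x.mk₀_id_comp, (ModuleCat.isZero_of_subsingleton (ModuleCat.of R M)).eq_of_src (𝟙 _) 0, Ext.mk₀_zero,
        Ext.zero_comp]
    · rw [GrothLib.Depth.depth_eq_top_of_subsingleton, add_top]
      exact le_top
  have hex : ∃ e, Serre.PdLE R M e := ⟨N, Serre.pdLE_of_isRegularLocalRing R N hN M⟩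
  set e := Nat.find hex with he
  have hle : HasProjectiveDimensionLE (ModuleCat.of R M) e := Nat.find_spec hex
  have hnlt : ¬ HasProjectiveDimensionLT (ModuleCat.of R M) e := by
    intro h
    rcases Nat.eq_zero_or_pos e with h0 | h0
    · rw [h0] at h
      have hz := isZero_of_hasProjectiveDimensionLT_zero (ModuleCat.of R M)
      exact not_subsingleton M (ModuleCat.isZero_iff_subsingleton.1 hz)
    · exact Nat.find_min hex (show e - 1 < Nat.find hex by omega)
        (show HasProjectiveDimensionLT _ (e - 1 + 1) by rwa [show e - 1 + 1 = e by omega])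
  obtain ⟨d, hd, hde⟩ := AusBuch.exists_isDepth_of_pd R e M hle hnlt
  obtain ⟨d', hd', hd''⟩ := AusBuch.isDepth_exists R (M := M)
  obtain ⟨r, hr, hr'⟩ := AusBuch.isDepth_exists R (M := R)
  obtain ⟨rs, h4, h5, h6⟩ := CMFree.exists_weaklyRegular_of_isRegularLocalRing R
  haveI hCM := CMFree.isCohenMacaulayLocalRing_of_weaklyRegular R rs h4 h5 h6.ge
  have hrN : r = N := by
    have h := hCM.supportDim_eq_depth
    rw [Module.supportDim_self_eq_ringKrullDim, hN, hr] at h
    exact_mod_cast h.symm
  have hsum : d' + e = N := by rw [← hrN, hr'.unique R hde, hd.unique R hd'']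
  rw [hd']
  constructor
  · intro h
    have hc : Serre.PdLE R M c :=
      Serre.pdLE_of_ext_self c N (Serre.pdLE_of_isRegularLocalRing R N hN M) fun j h1 _ => h j h1
    have h2 : e ≤ c := Nat.find_le hc
    exact_mod_cast (show N ≤ c + d' by omega)
  · intro h j hj
    have h2 : N ≤ c + d' := by exact_mod_cast h
    haveI : HasProjectiveDimensionLT (ModuleCat.of R M) (c + 1) := Serre.pdLE_mono (show e ≤ c by omega) hle
    exact HasProjectiveDimensionLT.subsingleton (ModuleCat.of R M) (c + 1) j hj _

/-- A coherent module vanishing at the closed points vanishes. -/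
theorem isZero_iff_stalk_closedPoints {X : Scheme.{u}} [IsNoetherian X] {E : X.Modules} (hE : Coh.IsCoh E) :
    IsZero E ↔ ∀ x : X, IsClosed ({x} : Set X) → IsZero ((OX.stalk x).obj E) := by
  refine ⟨fun h x _ => (OX.isZero_iff E).1 h x, fun h => (OX.isZero_iff E).2 fun x => ?_⟩
  rw [ModuleCat.isZero_iff_subsingleton]
  by_contra hx
  obtain ⟨y, hy, hyc⟩ := (QCoh.isClosed_support_of_isCoh hE).exists_closed_singleton ⟨x, hx⟩
  exact hy (ModuleCat.isZero_iff_subsingleton.1 (h y hyc))

variable {n : ℕ} {k : Type u} [Field k]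

theorem dim_stalk_closedPoint (x : CohB1.ProjSpace n k) (hx : IsClosed ({x} : Set (CohB1.ProjSpace n k))) :
    ringKrullDim ((CohB1.ProjSpace n k).presheaf.stalk x) = n := by
  haveI := ProjDim.locallyOfFiniteType_toSpec k n
  have h := CodimExt27.ptDim_add_dim_stalk (CohB1.ProjSpace.toSpec n k) (DualTF27.pure_projSpace k n) x
  rwa [AffDom.ptDim_closedPoint hx, zero_add] at h

/-- The Ext sheaf into `ω` vanishes iff the Ext modules at the closed points do. -/
theorem isZero_extSh_omega_iff {F : (CohB1.ProjSpace n k).Modules} (hF : Coh.IsCoh F)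
    [ModSite.HasSheafHom (O := (CohB1.ProjSpace n k).sheaf) F]
    [HasInjectiveResolutions (ModSite.Mod (CohB1.ProjSpace n k).sheaf)] (j : ℕ) :
    IsZero ((ModSite.extSh (O := (CohB1.ProjSpace n k).sheaf) F j).obj
      (Twist.twistProjSpace n k (-((n : ℤ) + 1)))) ↔
      ∀ x : CohB1.ProjSpace n k, IsClosed ({x} : Set (CohB1.ProjSpace n k)) → Subsingleton
        (Ext (ModuleCat.of ((CohB1.ProjSpace n k).presheaf.stalk x) (F.presheaf.stalk x))
          (ModuleCat.of ((CohB1.ProjSpace n k).presheaf.stalk x) ((CohB1.ProjSpace n k).presheaf.stalk x)) j) := by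
  rw [isZero_iff_stalk_closedPoints (Groth.Agent.S10943.result _ F _ hF
    (Euler.isCoh_of_isInvertible (CMReg.isInvertible_twist (n := n) (k := k) _)) j)]
  refine forall₂_congr fun x _ => ?_
  obtain ⟨a⟩ := Groth.Agent.S11323.result _ F (Twist.twistProjSpace n k (-((n : ℤ) + 1))) hF x j
  obtain ⟨w⟩ := DualTF27.nonempty_stalk_iso_of_rank_one (DualTF27.rankOne_twist k n (-((n : ℤ) + 1))) x
  rw [ModuleCat.isZero_iff_subsingleton]
  refine (Equiv.ofBijective _ (ExtTilde20.bijective_modTo x _)).symm.subsingleton_congr.trans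
    (a.toEquiv.subsingleton_congr.trans ?_)
  rw [subsingleton_ext_iff_of_iso (ExtTilde20.stalkModIso x F)
    (ExtTilde20.stalkModIso x _ ≪≫ (ModuleCat.restrictScalars (ExtTilde20.ringEquiv x).toRingHom).mapIso w) j]
  have hb := Functor.mapExt_bijective_of_preservesInjectiveObjects
    (ModuleCat.restrictScalars.{u} (ExtTilde20.ringEquiv x).toRingHom)
    ((OX.stalk x).obj F) (ModuleCat.of _ ((CohB1.ProjSpace n k).presheaf.stalk x)) j
  exact (Equiv.ofBijective _ hb).subsingleton_congr.symm

/-- The Ext sheaves into `ω` vanish above `c` iff the depth at closed points is at least `n - c`. -/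
theorem extSh_vanish_above_iff_depth {F : (CohB1.ProjSpace n k).Modules} (hF : Coh.IsCoh F)
    [ModSite.HasSheafHom (O := (CohB1.ProjSpace n k).sheaf) F]
    [HasInjectiveResolutions (ModSite.Mod (CohB1.ProjSpace n k).sheaf)] (c : ℕ) :
    (∀ j, c < j → IsZero ((ModSite.extSh (O := (CohB1.ProjSpace n k).sheaf) F j).obj
        (Twist.twistProjSpace n k (-((n : ℤ) + 1))))) ↔
      ∀ x : CohB1.ProjSpace n k, IsClosed ({x} : Set (CohB1.ProjSpace n k)) →
        (n : ℕ∞) ≤ (c : ℕ∞) + LocCoh.depth ((CohB1.ProjSpace n k).presheaf.stalk x) (F.presheaf.stalk x) := by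
  have key := fun j => isZero_extSh_omega_iff hF j
  refine ⟨fun h x hx => ?_, fun h j hj => (key j).2 fun x hx => ?_⟩
  · haveI := DualTF27.isRegular_projSpace k n x
    haveI := QuasiFlat.finite_stalk F hF x
    exact (ext_self_vanish_iff_le_depth (dim_stalk_closedPoint x hx) _ c).1 fun j hj => (key j).1 (h j hj) x hx
  · haveI := DualTF27.isRegular_projSpace k n x
    haveI := QuasiFlat.finite_stalk F hF x
    exact (ext_self_vanish_iff_le_depth (dim_stalk_closedPoint x hx) _ c).2 (h x hx) j hj

/-- All the Ext sheaves into `ω` vanish iff the module does. -/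
theorem subsingleton_stalk_of_extSh_vanish {F : (CohB1.ProjSpace n k).Modules} (hF : Coh.IsCoh F)
    [ModSite.HasSheafHom (O := (CohB1.ProjSpace n k).sheaf) F]
    [HasInjectiveResolutions (ModSite.Mod (CohB1.ProjSpace n k).sheaf)]
    (h : ∀ j, IsZero ((ModSite.extSh (O := (CohB1.ProjSpace n k).sheaf) F j).obj
      (Twist.twistProjSpace n k (-((n : ℤ) + 1)))))
    (x : CohB1.ProjSpace n k) (hx : IsClosed ({x} : Set (CohB1.ProjSpace n k))) :
    Subsingleton (F.presheaf.stalk x) := by
  haveI := DualTF27.isRegular_projSpace k n x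
  haveI := QuasiFlat.finite_stalk F hF x
  haveI hE := fun j => (isZero_extSh_omega_iff hF j).1 (h j) x hx
  haveI : HasProjectiveDimensionLT
      (ModuleCat.of ((CohB1.ProjSpace n k).presheaf.stalk x) (F.presheaf.stalk x)) 1 :=
    Serre.pdLE_of_ext_self 0 n (Serre.pdLE_of_isRegularLocalRing _ n (dim_stalk_closedPoint x hx) _) fun j _ _ => hE j
  have hproj : Projective (ModuleCat.of ((CohB1.ProjSpace n k).presheaf.stalk x) (F.presheaf.stalk x)) :=
    projective_iff_hasProjectiveDimensionLT_one.2 inferInstance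
  haveI : Module.Projective ((CohB1.ProjSpace n k).presheaf.stalk x) (F.presheaf.stalk x) :=
    (IsProjective.iff_projective _).2 hproj
  haveI : Module.Free ((CohB1.ProjSpace n k).presheaf.stalk x) (F.presheaf.stalk x) :=
    Module.free_of_flat_of_isLocalRing
  refine not_nontrivial_iff_subsingleton.1 fun hnt => ?_
  let b := Module.Free.chooseBasis ((CohB1.ProjSpace n k).presheaf.stalk x) (F.presheaf.stalk x)
  obtain ⟨i⟩ := b.index_nonempty
  haveI : Subsingleton (ModuleCat.of ((CohB1.ProjSpace n k).presheaf.stalk x) (F.presheaf.stalk x) ⟶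
      ModuleCat.of ((CohB1.ProjSpace n k).presheaf.stalk x) ((CohB1.ProjSpace n k).presheaf.stalk x)) :=
    ⟨fun f g => (Ext.mk₀_bijective _ _).1 ((hE 0).elim _ _)⟩
  have h1 := congrArg (fun f => f.hom (b i)) (Subsingleton.elim (ModuleCat.ofHom (b.coord i)) 0)
  simp at h1

end GrothLib.SerrePn27
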