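import Groth.Agent.Lib.SerrePn27.Twist
import Groth.Agent.S10943

/-! # Ext into large twists is sections of the Ext sheaf -/

set_option autoImplicit false
set_option linter.style.haveILetI false
set_option backward.isDefEq.respectTransparency false

universe u

open CategoryTheory CategoryTheory.Limits AlgebraicGeometry TopologicalSpace
open CategoryTheory.Abelian (Ext)

noncomputable section

namespace GrothLib.SerrePn27

variable {n : ℕ} {A : Type u} [CommRing A] [IsNoetherianRing A] {X : Scheme.{u}} [X.Over (Spec (CommRingCat.of A))]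
  (i : X ⟶ CohB1.ProjSpace n A) [IsClosedImmersion i]

theorem nonempty_inverse_Oi {a b : ℤ} (h : a + b = 0) :
    Nonempty (CohB1.tensorMod (Oi i a) (Oi i b) ≅ Coh.structureModule X) := by
  obtain ⟨e⟩ := nonempty_Oi_add i h
  obtain ⟨z⟩ := nonempty_Oi_zero i
  exact ⟨e ≪≫ z⟩

theorem exists_ext_linearEquiv_extSh_twist
    (hi : i ≫ CohB1.ProjSpace.toSpec n A = X ↘ Spec (CommRingCat.of A)) [HasExt.{u} X.Modules] {F G : X.Modules}
    (hF : Coh.IsCoh F) (hG : Coh.IsCoh G) [ModSite.HasSheafHom (O := X.sheaf) F]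
    [HasInjectiveResolutions (ModSite.Mod X.sheaf)] (m : ℕ) :
    ∃ d₀ : ℕ, ∀ d : ℤ, (d₀ : ℤ) ≤ d →
      (∀ q, q ≤ m → HAcyclic (CohB1.tensorMod ((ModSite.extSh (O := X.sheaf) F q).obj G) (Oi i d))) ∧
      Nonempty (Ext F (CohB1.tensorMod G (Oi i d)) m ≃ₗ[A]
        Coh.HH X ((ModSite.extSh (O := X.sheaf) F m).obj (CohB1.tensorMod G (Oi i d))) 0) := by
  haveI := Chow.isProper_toSpec n A
  haveI : IsProper (X ↘ Spec (CommRingCat.of A)) := by rw [← hi]; infer_instance
  haveI : IsLocallyNoetherian X := LocallyOfFiniteType.isLocallyNoetherian (X ↘ Spec (CommRingCat.of A))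
  haveI : CompactSpace X := QuasiCompact.compactSpace_of_compactSpace (X ↘ Spec (CommRingCat.of A))
  haveI : IsNoetherian X := ⟨⟩
  choose d₀ hd₀ using fun q : ℕ => exists_twist_vanish i hi
    (Groth.Agent.S10943.result X F G hF hG q)
  refine ⟨(Finset.range (m + 1)).sup d₀, fun d hd => ?_⟩
  have hle : ∀ q, q ≤ m → (d₀ q : ℤ) ≤ d := fun q hq =>
    le_trans (by exact_mod_cast Finset.le_sup (f := d₀) (Finset.mem_range.2 (Nat.lt_succ_of_le hq))) hd
  obtain ⟨u⟩ := nonempty_inverse_Oi i (add_neg_cancel d)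
  obtain ⟨u'⟩ := nonempty_inverse_Oi i (neg_add_cancel d)
  refine ⟨fun q hq => hd₀ q d (hle q hq), ?_⟩
  haveI : DCoh.HasSheafHom F := LocFreeHom.hasSheafHom F
  refine nonempty_ext_linearEquiv_extSh F m fun q hq => ?_
  obtain ⟨e⟩ := nonempty_extSh_twist u u' F G q
  exact (hd₀ q d (hle q hq)).of_iso (k := A) e.symm

end GrothLib.SerrePn27
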