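import Groth.Agent.Lib.SerrePn27.DepthExt
import Groth.Agent.Lib.SerrePn27.AsympX
import Groth.Agent.Lib.Faltings.Transfer
import Groth.Agent.Lib.FibPd.Transfer
import Groth.Agent.Lib.RamSam.GrFree
import Groth.Agent.Lib.Chev28.IrredDim

/-! # Depth at closed points and vanishing of negative twists on a closed subscheme -/

set_option autoImplicit false
set_option linter.style.haveILetI false
set_option backward.isDefEq.respectTransparency false

universe u

open CategoryTheory CategoryTheory.Limits AlgebraicGeometry TopologicalSpace IsLocalRing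

noncomputable section

namespace GrothLib.SerrePn27

variable {n : ℕ} {k : Type u} [Field k] {X : Scheme.{u}} (ι' : X ⟶ CohB1.ProjSpace n k) [IsClosedImmersion ι']

theorem nonempty_push_tensor_Oi (G : X.Modules) (d : ℤ) :
    Nonempty ((Scheme.Modules.pushforward ι').obj (CohB1.tensorMod G (Oi ι' d)) ≅
      CMReg.Ft ((Scheme.Modules.pushforward ι').obj G) d) := by
  haveI := ProjFormula.isIso_projHom ι'
    (Euler.isFinLocFree_of_isInvertible (CMReg.isInvertible_twist (n := n) (k := k) d)) G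
  exact ⟨(Scheme.Modules.pushforward ι').mapIso (GrTilde.tensorModComm (X := X) _ _) ≪≫
    (asIso (ProjFormula.projHom ι' (Twist.twistProjSpace n k d) G)).symm ≪≫
    GrTilde.tensorModComm (X := CohB1.ProjSpace n k) _ _⟩

/-- The depth of the stalk of a direct image. -/
theorem depth_push_stalk {G : X.Modules} (hG : Coh.IsCoh G) (x : X) :
    LocCoh.depth ((CohB1.ProjSpace n k).presheaf.stalk (ι' x))
      (((Scheme.Modules.pushforward ι').obj G).presheaf.stalk (ι' x)) =
      LocCoh.depth (X.presheaf.stalk x) (G.presheaf.stalk x) := by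
  haveI := isLocallyNoetherian_of_closed ι'
  haveI := QuasiFlat.finite_stalk G hG x
  haveI := QuasiFlat.finite_stalk _ (K0Sub.isCoh_push ι' hG) (ι' x)
  haveI : IsIso (QCoh.pushStalkHom ι' x G) :=
    (ConcreteCategory.isIso_iff_bijective _).2 (QCoh.pushStalkHom_bijective ι' x G ι'.isClosedEmbedding.isInducing)
  have hsurj := ι'.stalkMap_surjective x
  letI : Algebra ((CohB1.ProjSpace n k).presheaf.stalk (ι' x)) (X.presheaf.stalk x) := (ι'.stalkMap x).hom.toAlgebra
  letI : Module ((CohB1.ProjSpace n k).presheaf.stalk (ι' x)) (G.presheaf.stalk x) :=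
    Module.compHom _ (ι'.stalkMap x).hom
  haveI : IsScalarTower ((CohB1.ProjSpace n k).presheaf.stalk (ι' x)) (X.presheaf.stalk x) (G.presheaf.stalk x) :=
    IsScalarTower.of_algebraMap_smul fun _ _ => rfl
  let e : ((Scheme.Modules.pushforward ι').obj G).presheaf.stalk (ι' x) ≃ₗ[(CohB1.ProjSpace n k).presheaf.stalk (ι' x)]
      G.presheaf.stalk x := (asIso (QCoh.pushStalkHom ι' x G)).toLinearEquiv
  haveI : Module.Finite ((CohB1.ProjSpace n k).presheaf.stalk (ι' x)) (G.presheaf.stalk x) := Module.Finite.equiv e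
  rw [FibPd.depth_congr e]
  exact Faltings.depth_eq_of_surjective hsurj _

theorem subsingleton_stalk_push_of_notMem (G : X.Modules) {y : CohB1.ProjSpace n k} (hy : y ∉ Set.range ι') :
    Subsingleton (((Scheme.Modules.pushforward ι').obj G).presheaf.stalk y) :=
  not_not.1 fun h => hy (QCoh.support_pushforward_subset_range ι' G h)

/-- The Ext sheaves of a direct image vanish in high degrees iff the depth at closed points is large. -/
theorem extSh_push_vanish_iff_depth {G : X.Modules} (hG : Coh.IsCoh G) {d : ℕ} (hd : d ≤ n)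
    [ModSite.HasSheafHom (O := (CohB1.ProjSpace n k).sheaf) ((Scheme.Modules.pushforward ι').obj G)]
    [HasInjectiveResolutions (ModSite.Mod (CohB1.ProjSpace n k).sheaf)] :
    (∀ j, n - d < j → IsZero ((ModSite.extSh (O := (CohB1.ProjSpace n k).sheaf)
        ((Scheme.Modules.pushforward ι').obj G) j).obj (Twist.twistProjSpace n k (-((n : ℤ) + 1))))) ↔
      ∀ x : X, IsClosed ({x} : Set X) → (d : ℕ∞) ≤ LocCoh.depth (X.presheaf.stalk x) (G.presheaf.stalk x) := by
  have hN : (n : ℕ∞) = ((n - d : ℕ) : ℕ∞) + d := by exact_mod_cast (by omega : n = n - d + d)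
  rw [extSh_vanish_above_iff_depth (K0Sub.isCoh_push ι' hG)]
  constructor
  · intro h x hx
    have h1 := h (ι' x) (by rw [← Set.image_singleton]; exact ι'.isClosedEmbedding.isClosedMap _ hx)
    rw [depth_push_stalk ι' hG x, hN] at h1
    exact (ENat.add_le_add_iff_left (ENat.coe_ne_top _)).1 h1
  · intro h y hy
    by_cases hr : y ∈ Set.range ι'
    · obtain ⟨x, rfl⟩ := hr
      have hx : IsClosed ({x} : Set X) := by
        rw [← ι'.isClosedEmbedding.injective.preimage_image ({x} : Set X), Set.image_singleton]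
        exact hy.preimage ι'.continuous
      rw [depth_push_stalk ι' hG x, hN]
      exact add_le_add le_rfl (h x hx)
    · haveI := subsingleton_stalk_push_of_notMem ι' G hr
      rw [Depth.depth_eq_top_of_subsingleton, add_top]
      exact le_top

/-- Asymptotic vanishing below the depth. -/
theorem vanish_tensor_of_depth {G : X.Modules} (hG : Coh.IsCoh G) {d : ℕ} (hd : d ≤ n)
    (h : ∀ x : X, IsClosed ({x} : Set X) → (d : ℕ∞) ≤ LocCoh.depth (X.presheaf.stalk x) (G.presheaf.stalk x))
    (p : ℕ) (hp : p < d) :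
    ∃ m₀ : ℤ, ∀ m : ℤ, m₀ ≤ m → Subsingleton (Coh.HH X (CohB1.tensorMod G (Oi ι' (-m))) p) := by
  letI : X.Over (Spec (CommRingCat.of k)) := ⟨ι' ≫ CohB1.ProjSpace.toSpec n k⟩
  haveI : ι'.IsOver (Spec (CommRingCat.of k)) := ⟨rfl⟩
  haveI : HasInjectiveResolutions (ModSite.Mod (CohB1.ProjSpace n k).sheaf) :=
    ExtTilde20.hasInjectiveResolutions_mod _
  haveI : ModSite.HasSheafHom (O := (CohB1.ProjSpace n k).sheaf) ((Scheme.Modules.pushforward ι').obj G) :=
    SheafCoh.hasSheafHom _ _
  obtain ⟨m₀, hm₀⟩ := (vanish_iff_isZero_extSh (K0Sub.isCoh_push ι' hG) (i := p) (j := n - p) (by omega)).2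
    ((extSh_push_vanish_iff_depth ι' hG hd).2 h (n - p) (by omega))
  refine ⟨m₀, fun m hm => ?_⟩
  obtain ⟨e⟩ := nonempty_HH_push_equiv (k := k) ι' (CohB1.tensorMod G (Oi ι' (-m))) p
  obtain ⟨f⟩ := nonempty_push_tensor_Oi ι' G (-m)
  exact (e ≪≫ₗ hhMapEquiv (k := k) f p).toEquiv.subsingleton_congr.2 (hm₀ m hm)

theorem nonempty_tensor_structure_Oi (d : ℤ) :
    Nonempty (CohB1.tensorMod (Coh.structureModule X) (Oi ι' d) ≅ Oi ι' d) :=
  ⟨OX.tensorUnitLeftIso _⟩

include ι' in
theorem depth_structure_stalk (x : X) :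
    LocCoh.depth (X.presheaf.stalk x) ((Coh.structureModule X).presheaf.stalk x) =
      LocCoh.depth (X.presheaf.stalk x) (X.presheaf.stalk x) := by
  haveI := isLocallyNoetherian_of_closed ι'
  haveI := QuasiFlat.finite_stalk _ (HomSh.isCoh_structureModule X) x
  obtain ⟨u⟩ := DualTF27.nonempty_stalk_iso_of_rank_one (M := Coh.structureModule X)
    (fun z => ⟨⊤, trivial, ⟨Scheme.Modules.restrictUnitIso _ ≪≫ (coproductUniqueIso fun _ : Fin 1 => _).symm⟩⟩) x
  let e : (Coh.structureModule X).presheaf.stalk x ≃ₗ[X.presheaf.stalk x] X.presheaf.stalk x := u.toLinearEquiv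
  exact FibPd.depth_congr e

/-- Depth from asymptotic vanishing of the negative twists. -/
theorem depth_of_vanish {d : ℕ} (hd : d ≤ n)
    (hV : ∀ p, p < d → ∃ m₀ : ℤ, ∀ m : ℤ, m₀ ≤ m → Subsingleton (Coh.HH X (Oi ι' (-m)) p))
    (x : X) (hx : IsClosed ({x} : Set X)) : (d : ℕ∞) ≤ LocCoh.depth (X.presheaf.stalk x) (X.presheaf.stalk x) := by
  haveI := isLocallyNoetherian_of_closed ι'
  haveI : HasInjectiveResolutions (ModSite.Mod (CohB1.ProjSpace n k).sheaf) :=
    ExtTilde20.hasInjectiveResolutions_mod _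
  haveI : ModSite.HasSheafHom (O := (CohB1.ProjSpace n k).sheaf)
      ((Scheme.Modules.pushforward ι').obj (Coh.structureModule X)) := SheafCoh.hasSheafHom _ _
  rw [← depth_structure_stalk ι' x]
  refine (extSh_push_vanish_iff_depth ι' (HomSh.isCoh_structureModule X) hd).1 (fun j hj => ?_) x hx
  rcases Nat.lt_or_ge n j with h | h
  · exact (extSh_vanish_above_iff_depth (QCoh.pushUnit_isCoh ι') n).2 (fun _ _ => le_self_add) j h
  · exact (vanish_Oi_iff_isZero_extSh ι' (p := n - j) (by omega)).1 (hV _ (by omega))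

theorem isCohenMacaulay_of_le_depth {R : Type u} [CommRing R] [IsLocalRing R] [IsNoetherianRing R] {d : ℕ}
    (hdim : ringKrullDim R ≤ d) (h : (d : ℕ∞) ≤ LocCoh.depth R R) :
    LocCoh.IsCohenMacaulayLocalRing R ∧ ringKrullDim R = d := by
  have h1 : ((d : ℕ∞) : WithBot ℕ∞) ≤ ((LocCoh.depth R R : ℕ∞) : WithBot ℕ∞) := WithBot.coe_le_coe.2 h
  have h2 := CMFree.depth_le_ringKrullDim R
  have h3 : ringKrullDim R = d := le_antisymm hdim (h1.trans h2)
  refine ⟨{ supportDim_eq_depth := ?_ }, h3⟩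
  rw [Module.supportDim_self_eq_ringKrullDim]
  exact le_antisymm (hdim.trans h1) h2

theorem le_depth_of_isCohenMacaulay {R : Type u} [CommRing R] [hR : LocCoh.IsCohenMacaulayLocalRing R] {d : ℕ}
    (hdim : ringKrullDim R = d) : (d : ℕ∞) ≤ LocCoh.depth R R := by
  have h := hR.supportDim_eq_depth
  rw [Module.supportDim_self_eq_ringKrullDim, hdim] at h
  exact WithBot.coe_le_coe.1 h.le

include ι' in
/-- Depth of a vector bundle at a closed point of a Cohen-Macaulay scheme. -/
theorem le_depth_stalk_of_CM {d : ℕ}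
    (hCM : ∀ x : X, IsClosed ({x} : Set X) →
      LocCoh.IsCohenMacaulayLocalRing (X.presheaf.stalk x) ∧ ringKrullDim (X.presheaf.stalk x) = d)
    {F : X.Modules} (hF : FlatMod.IsFinLocFree F) (x : X) (hx : IsClosed ({x} : Set X)) :
    (d : ℕ∞) ≤ LocCoh.depth (X.presheaf.stalk x) (F.presheaf.stalk x) := by
  haveI := isLocallyNoetherian_of_closed ι'
  haveI := Euler.isQuasicoherent_of_isFinLocFree hF
  haveI : Module.Free (X.presheaf.stalk x) (F.presheaf.stalk x) := ((LocFree8.isFinLocFree_iff_fp_free F).1 hF).2 x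
  haveI := QuasiFlat.finite_stalk F (Euler.isCoh_of_isFinLocFree hF) x
  obtain ⟨h1, h2⟩ := hCM x hx
  exact RamSam.le_depth_of_free (le_depth_of_isCohenMacaulay h2) _

include ι' in
theorem dim_le_of_closed {d : ℕ} (hd : topologicalKrullDim ↥X = d) : d ≤ n := by
  have h := ι'.isClosedEmbedding.isInducing.topologicalKrullDim_le
  rw [hd, Groth.Agent.S10829.result k n] at h
  exact_mod_cast h

/-- Depth from asymptotic vanishing, with coefficients. -/
theorem depth_of_vanish_tensor {G : X.Modules} (hG : Coh.IsCoh G) {d : ℕ} (hd : d ≤ n)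
    (hV : ∀ p, p < d → ∃ m₀ : ℤ, ∀ m : ℤ, m₀ ≤ m → Subsingleton (Coh.HH X (CohB1.tensorMod G (Oi ι' (-m))) p))
    (x : X) (hx : IsClosed ({x} : Set X)) : (d : ℕ∞) ≤ LocCoh.depth (X.presheaf.stalk x) (G.presheaf.stalk x) := by
  letI : X.Over (Spec (CommRingCat.of k)) := ⟨ι' ≫ CohB1.ProjSpace.toSpec n k⟩
  haveI : ι'.IsOver (Spec (CommRingCat.of k)) := ⟨rfl⟩
  haveI : HasInjectiveResolutions (ModSite.Mod (CohB1.ProjSpace n k).sheaf) :=
    ExtTilde20.hasInjectiveResolutions_mod _
  haveI : ModSite.HasSheafHom (O := (CohB1.ProjSpace n k).sheaf) ((Scheme.Modules.pushforward ι').obj G) :=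
    SheafCoh.hasSheafHom _ _
  refine (extSh_push_vanish_iff_depth ι' hG hd).1 (fun j hj => ?_) x hx
  rcases Nat.lt_or_ge n j with h | h
  · exact (extSh_vanish_above_iff_depth (K0Sub.isCoh_push ι' hG) n).2 (fun _ _ => le_self_add) j h
  · obtain ⟨m₀, hm₀⟩ := hV (n - j) (by omega)
    refine (vanish_iff_isZero_extSh (K0Sub.isCoh_push ι' hG) (i := n - j) (by omega)).1 ⟨m₀, fun m hm => ?_⟩
    obtain ⟨e⟩ := nonempty_HH_push_equiv (k := k) ι' (CohB1.tensorMod G (Oi ι' (-m))) (n - j)
    obtain ⟨f⟩ := nonempty_push_tensor_Oi ι' G (-m)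
    exact (e ≪≫ₗ hhMapEquiv (k := k) f (n - j)).toEquiv.subsingleton_congr.1 (hm₀ m hm)

/-- Over a regular local ring, maximal depth means free. -/
theorem free_of_dim_le_depth {R : Type u} [CommRing R] [IsRegularLocalRing R] {d : ℕ} (hR : ringKrullDim R = d)
    (M : Type u) [AddCommGroup M] [Module R M] [Module.Finite R M] (h : (d : ℕ∞) ≤ LocCoh.depth R M) :
    Module.Free R M := by
  haveI : HasProjectiveDimensionLT (ModuleCat.of R M) 1 :=
    Serre.pdLE_of_ext_self 0 d (Serre.pdLE_of_isRegularLocalRing R d hR M) fun j hj _ =>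
      (ext_self_vanish_iff_le_depth hR M 0).2 (by rwa [Nat.cast_zero, zero_add]) j hj
  haveI : Module.Projective R M := (IsProjective.iff_projective _).2
    (projective_iff_hasProjectiveDimensionLT_one.2 inferInstance)
  exact Module.free_of_flat_of_isLocalRing

end GrothLib.SerrePn27
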