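import Groth.Agent.Lib.SerrePn27.ExtHH
import Groth.Agent.Lib.SerrePn27.Universal
import Groth.Agent.Lib.ModSupp25.SS
import Groth.Agent.Lib.LocFreeDual20.Ext

/-! # Global Ext is sections of local Ext when the local Ext sheaves are acyclic -/

set_option autoImplicit false
set_option linter.style.haveILetI false
set_option backward.isDefEq.respectTransparency false

universe u

open CategoryTheory CategoryTheory.Limits AlgebraicGeometry TopologicalSpace
open GrothLib.Cohom (hhMap hhDelta)
open CategoryTheory.Abelian (Ext)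

noncomputable section

namespace GrothLib.SerrePn27

section acyclic

variable {X : Scheme.{u}}

/-- Vanishing higher cohomology. -/
def HAcyclic (M : X.Modules) : Prop := ∀ p : ℕ, Subsingleton (Coh.HH X M (p + 1))

variable {k : Type u} [CommRing k] [X.Over (Spec (CommRingCat.of k))]

/-- Isomorphic modules have linearly isomorphic cohomology. -/
def hhMapEquiv {M N : X.Modules} (e : M ≅ N) (i : ℕ) : Coh.HH X M i ≃ₗ[k] Coh.HH X N i :=
  LinearEquiv.ofLinear (hhMap k e.hom i) (hhMap k e.inv i)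
    (LinearMap.ext fun x => by
      rw [LinearMap.comp_apply, ← hhMap_comp, e.inv_hom_id, LinearMap.id_apply]
      exact (congrArg (fun g => Sheaf.H.map g i x) ((QCoh.toAbFun X).map_id N)).trans (Sheaf.H.map_id_apply x))
    (LinearMap.ext fun x => by
      rw [LinearMap.comp_apply, ← hhMap_comp, e.hom_inv_id, LinearMap.id_apply]
      exact (congrArg (fun g => Sheaf.H.map g i x) ((QCoh.toAbFun X).map_id M)).trans (Sheaf.H.map_id_apply x))

include k in
theorem HAcyclic.of_iso {M N : X.Modules} (e : M ≅ N) (h : HAcyclic M) : HAcyclic N := fun p =>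
  haveI := h p
  (hhMapEquiv (k := k) e (p + 1)).symm.toEquiv.subsingleton

include k in
theorem HAcyclic.X₃ {S : ShortComplex X.Modules} (hS : S.ShortExact) (h₁ : HAcyclic S.X₁) (h₂ : HAcyclic S.X₂) :
    HAcyclic S.X₃ := fun p => subsingleton_of_forall_eq 0 fun x => by
  obtain ⟨y, rfl⟩ := ((Cohom.exact₃ (A := k) hS (p + 1)) x).1 (@Subsingleton.elim _ (h₁ (p + 1)) _ _)
  rw [@Subsingleton.elim _ (h₂ p) y 0, map_zero]

include k in
theorem HAcyclic.X₂ {S : ShortComplex X.Modules} (hS : S.ShortExact) (h₁ : HAcyclic S.X₁) (h₃ : HAcyclic S.X₃) :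
    HAcyclic S.X₂ := fun p => subsingleton_of_forall_eq 0 fun x => by
  obtain ⟨y, rfl⟩ := ((Cohom.exact₂ (A := k) hS (p + 1)) x).1 (@Subsingleton.elim _ (h₃ p) _ _)
  rw [@Subsingleton.elim _ (h₁ p) y 0, map_zero]

theorem surjective_hhMap_zero {S : ShortComplex X.Modules} (hS : S.ShortExact) (h₁ : HAcyclic S.X₁) :
    Function.Surjective (hhMap k S.g 0) := fun x =>
  ((Cohom.exact₃ (A := k) hS 0) x).1 (@Subsingleton.elim _ (h₁ 0) _ _)

end acyclic

variable {k : Type u} [CommRing k] {X : Scheme.{u}} [X.Over (Spec (CommRingCat.of k))]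
  (F : X.Modules) [DCoh.HasSheafHom F]

include k in
theorem hAcyclic_sheafHom_injective (I : X.Modules) [Injective I] :
    HAcyclic ((DCoh.sheafHom F).obj I) := by
  haveI : EnoughInjectives X.Modules := SheafCoh.enoughInjectives_sheafOfModules X.ringCatSheaf
  haveI : HasExt.{u} (ModSite.Mod X.sheaf) := ModSupp25.hasExt_mod X.sheaf
  haveI : ModSite.HasSheafHom (O := X.sheaf) F := SheafCoh.hasSheafHom X.sheaf F
  haveI : Injective (C := ModSite.Mod X.sheaf) I := ‹Injective I›
  intro p
  obtain ⟨e⟩ := ModSupp25.nonempty_R_homUnit (O := X.sheaf) ((ModSite.sheafHom (O := X.sheaf) F).obj I) (p + 1)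
  have hz := (ModSupp25.isZero_R_homUnit_sheafHom (O := X.sheaf) F I (p + 1) (Nat.succ_pos p)).of_iso e.symm
  haveI : Subsingleton (Coh.HH X ((ModSite.sheafHom (O := X.sheaf) F).obj I) (p + 1)) :=
    AddCommGrpCat.subsingleton_of_isZero hz
  exact (hhMapEquiv (k := k) ((LocFreeDual20.siteHomIso F).app I) (p + 1)).symm.toEquiv.subsingleton

variable [HasExt.{u} X.Modules] [HasInjectiveResolutions X.Modules] [(DCoh.sheafHom F).Additive]
  [PreservesFiniteLimits (DCoh.sheafHom F)]

/-- Global Ext from acyclic local Ext. -/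
theorem nonempty_ext_linearEquiv_rightDerived : ∀ (j : ℕ) (G : X.Modules),
    (∀ i, i ≤ j → HAcyclic (((DCoh.sheafHom F).rightDerived i).obj G)) →
      Nonempty (Ext F G j ≃ₗ[k] Coh.HH X (((DCoh.sheafHom F).rightDerived j).obj G) 0) := by
  haveI : EnoughInjectives X.Modules := SheafCoh.enoughInjectives_sheafOfModules X.ringCatSheaf
  intro j
  induction j with
  | zero =>
    intro G _
    exact ⟨Ext.linearEquiv₀ ≪≫ₗ homEquivHH F G ≪≫ₗ hhMapEquiv (asIso ((DCoh.sheafHom F).toRightDerivedZero.app G)) 0⟩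
  | succ j ih =>
    intro G hG
    let D := DCoh.sheafHom F
    let I : InjectivePresentation G := Classical.arbitrary _
    let S := ShortComplex.mk _ _ (cokernel.condition I.f)
    have hS : S.ShortExact := { exact := ShortComplex.exact_cokernel I.f }
    haveI : Injective I.J := I.injective
    haveI : Injective S.X₂ := I.injective
    haveI : Mono S.f := hS.mono_f
    have hI : HAcyclic (D.obj S.X₂) := hAcyclic_sheafHom_injective (k := k) F I.J
    have hG0 : HAcyclic (D.obj S.X₁) :=
      (hG 0 (Nat.zero_le _)).of_iso (k := k) (asIso (D.toRightDerivedZero.app G)).symm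
    -- the image of `D I → D Q`
    let p := Abelian.factorThruImage (D.map S.g)
    have hex : (S.map D).Exact :=
      ShortComplex.exact_of_f_is_kernel _ (isLimitForkMapOfIsLimit' D S.zero hS.fIsKernel)
    have hzero : D.map S.f ≫ p = 0 := by
      rw [← cancel_mono (Abelian.image.ι (D.map S.g)), Category.assoc, Abelian.image.fac, zero_comp, ← D.map_comp,
        S.zero, D.map_zero]
    have hS₁ : (ShortComplex.mk (D.map S.f) p hzero).ShortExact := by
      haveI : Mono (D.map S.f) := inferInstance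
      refine { exact := ?_ }
      let η : ShortComplex.mk (D.map S.f) p hzero ⟶ S.map D :=
        { τ₁ := 𝟙 _
          τ₂ := 𝟙 _
          τ₃ := Abelian.image.ι (D.map S.g)
          comm₁₂ := by simp
          comm₂₃ := by
            show 𝟙 _ ≫ D.map S.g = p ≫ Abelian.image.ι (D.map S.g)
            rw [Category.id_comp, Abelian.image.fac] }
      haveI : Epi η.τ₁ := inferInstanceAs (Epi (𝟙 _))
      haveI : IsIso η.τ₂ := inferInstanceAs (IsIso (𝟙 _))
      haveI : Mono η.τ₃ := inferInstanceAs (Mono (Abelian.image.ι (D.map S.g)))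
      exact (ShortComplex.exact_iff_of_epi_of_isIso_of_mono η).2 hex
    have hS₂ : (ShortComplex.mk (Abelian.image.ι (D.map S.g)) (cokernel.π (D.map S.g)) (kernel.condition _)).ShortExact :=
      { exact := ShortComplex.exact_of_f_is_kernel _ (kernelIsKernel _) }
    have hB : HAcyclic (Abelian.image (D.map S.g)) := HAcyclic.X₃ (k := k) hS₁ hG0 hI
    obtain ⟨e1⟩ := nonempty_rightDerived_one_iso D hS (Functor.isZero_rightDerived_obj_injective_succ D 0 I.J)
    let δE : Ext F S.X₃ j →ₗ[k] Ext F S.X₁ (j + 1) := Ext.postcompOfLinear hS.extClass k F rfl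
    have hδE : Function.Surjective δE := fun x =>
      Ext.covariant_sequence_exact₁ _ hS x (Ext.eq_zero_of_injective _) rfl
    rcases Nat.eq_zero_or_pos j with rfl | hj
    · let E₀ : Ext F S.X₃ 0 ≃ₗ[k] Coh.HH X (D.obj S.X₃) 0 := Ext.linearEquiv₀ ≪≫ₗ homEquivHH F S.X₃
      let Φ : Ext F S.X₃ 0 →ₗ[k] Coh.HH X (cokernel (D.map S.g)) 0 :=
        (hhMap k (cokernel.π (D.map S.g)) 0).comp E₀.toLinearMap
      have hΦ : Function.Surjective Φ := (surjective_hhMap_zero (k := k) hS₂ hB).comp E₀.surjective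
      obtain ⟨e⟩ := nonempty_equiv_of_ker_eq' δE Φ hδE hΦ (Submodule.ext fun x => by
        obtain ⟨φ, rfl⟩ : ∃ φ, Ext.mk₀ φ = x := (Ext.mk₀_bijective _ _).2 x
        have hE₀ : E₀ (Ext.mk₀ φ) = homEquivHH (k := k) F S.X₃ φ := by
          show homEquivHH (k := k) F S.X₃ (Ext.linearEquiv₀ (R := k) (Ext.mk₀ φ)) = _
          rw [← Ext.linearEquiv₀_symm_apply (R := k), LinearEquiv.apply_symm_apply]
        show δE (Ext.mk₀ φ) = 0 ↔ hhMap k (cokernel.π (D.map S.g)) 0 (E₀ (Ext.mk₀ φ)) = 0
        rw [show hhMap k (cokernel.π (D.map S.g)) 0 (E₀ (Ext.mk₀ φ)) =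
          hhMap k (cokernel.π (D.map S.g)) 0 (homEquivHH (k := k) F S.X₃ φ) from congrArg _ hE₀]
        constructor
        · intro h
          obtain ⟨z, hz⟩ := Ext.covariant_sequence_exact₃ _ hS (Ext.mk₀ φ) rfl h
          obtain ⟨ψ, rfl⟩ : ∃ ψ, Ext.mk₀ ψ = z := (Ext.mk₀_bijective _ _).2 z
          rw [Ext.mk₀_comp_mk₀] at hz
          rw [← (Ext.mk₀_bijective _ _).1 hz, homEquivHH_comp, ← hhMap_comp, cokernel.condition, hhMap_zero]
          rfl
        · intro h
          obtain ⟨w, hw⟩ := ((Cohom.exact₂ (A := k) hS₂ 0) _).1 h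
          obtain ⟨v, rfl⟩ := surjective_hhMap_zero (k := k) hS₁ hG0 w
          obtain ⟨ψ, rfl⟩ := (homEquivHH (k := k) F S.X₂).surjective v
          have e : φ = ψ ≫ S.g := by
            refine (homEquivHH (k := k) F S.X₃).injective ?_
            rw [homEquivHH_comp, ← hw, ← hhMap_comp, Abelian.image.fac]
          show (Ext.mk₀ φ).comp hS.extClass (rfl : 0 + 1 = 0 + 1) = 0
          rw [e, ← Ext.mk₀_comp_mk₀, Ext.comp_assoc_of_second_deg_zero, hS.comp_extClass, Ext.comp_zero])
      exact ⟨e ≪≫ₗ hhMapEquiv e1.symm 0⟩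
    · have hzI : ∀ i, IsZero ((D.rightDerived (i + 1)).obj S.X₂) := fun i =>
        Functor.isZero_rightDerived_obj_injective_succ D i I.J
      have hQ : ∀ i, i ≤ j → HAcyclic ((D.rightDerived i).obj S.X₃) := fun i hi => by
        rcases i with _ | i
        · exact (HAcyclic.X₂ (k := k) hS₂ hB ((hG 1 (by omega)).of_iso (k := k) e1)).of_iso (k := k)
            (asIso (D.toRightDerivedZero.app S.X₃))
        · obtain ⟨e⟩ := nonempty_rightDerived_succ_iso D hS i (hzI i) (hzI (i + 1))
          exact (hG (i + 2) (by omega)).of_iso (k := k) e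
      obtain ⟨e⟩ := ih S.X₃ hQ
      obtain ⟨q, rfl⟩ : ∃ q, j = q + 1 := ⟨j - 1, by omega⟩
      obtain ⟨e'⟩ := nonempty_rightDerived_succ_iso D hS q (hzI q) (hzI (q + 1))
      have hb : Function.Bijective δE := ⟨(injective_iff_map_eq_zero _).2 fun x hx => by
        obtain ⟨z, rfl⟩ := Ext.covariant_sequence_exact₃ _ hS x rfl hx
        rw [Ext.eq_zero_of_injective z, Ext.zero_comp], hδE⟩
      exact ⟨(LinearEquiv.ofBijective δE hb).symm ≪≫ₗ e ≪≫ₗ hhMapEquiv e'.symm 0⟩

omit [HasExt.{u} X.Modules] [HasInjectiveResolutions X.Modules] [(DCoh.sheafHom F).Additive]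
  [PreservesFiniteLimits (DCoh.sheafHom F)] in
/-- Global Ext is sections of local Ext when the local Ext sheaves have no higher cohomology. -/
theorem nonempty_ext_linearEquiv_extSh {G : X.Modules} [HasExt.{u} X.Modules]
    [ModSite.HasSheafHom (O := X.sheaf) F] [HasInjectiveResolutions (ModSite.Mod X.sheaf)] (j : ℕ)
    (h : ∀ i, i ≤ j → HAcyclic ((ModSite.extSh (O := X.sheaf) F i).obj G)) :
    Nonempty (Ext F G j ≃ₗ[k] Coh.HH X ((ModSite.extSh (O := X.sheaf) F j).obj G) 0) := by
  haveI : HasInjectiveResolutions X.Modules := ‹HasInjectiveResolutions (ModSite.Mod X.sheaf)›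
  haveI : (DCoh.sheafHom F).Additive := additive_sheafHom F
  haveI : PreservesFiniteLimits (DCoh.sheafHom F) :=
    haveI := (DCoh.sheafHomAdj F).rightAdjoint_preservesLimits
    inferInstance
  haveI : (ModSite.sheafHom (O := X.sheaf) F : X.Modules ⥤ X.Modules).Additive :=
    Functor.additive_of_iso (LocFreeDual20.siteHomIso F).symm
  let a : ∀ i, ((DCoh.sheafHom F).rightDerived i).obj G ≅ (ModSite.extSh (O := X.sheaf) F i).obj G := fun i =>
    (SheafCoh.rightDerivedCongr (LocFreeDual20.siteHomIso F).symm i).app G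
  obtain ⟨e⟩ := nonempty_ext_linearEquiv_rightDerived (k := k) F j G fun i hi => (h i hi).of_iso (k := k) (a i).symm
  exact ⟨e ≪≫ₗ hhMapEquiv (a j) 0⟩

end GrothLib.SerrePn27
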