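import Groth.Agent.Lib.SerrePn27.Ext
import Groth.Agent.Lib.SerrePn27.ToHH

/-! # The duality pairing on projective space -/

set_option autoImplicit false
set_option linter.style.haveILetI false
set_option backward.isDefEq.respectTransparency false

universe u

open CategoryTheory CategoryTheory.Limits AlgebraicGeometry TopologicalSpace
open GrothLib.Cohom (hhMap hhDelta)
open CategoryTheory.Abelian (Ext)

noncomputable section

namespace GrothLib.SerrePn27

variable {n : ℕ} {k : Type u} [Field k] [HasExt.{u} (CohB1.ProjSpace n k).Modules]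

local notation "Pn" => CohB1.ProjSpace n k
local notation "ω₀" => Twist.twistProjSpace n k (-((n : ℤ) + 1))
local notation "O₀" => Coh.structureModule (CohB1.ProjSpace n k)

variable (t : Coh.HH (CohB1.ProjSpace n k) (Twist.twistProjSpace n k (-((n : ℤ) + 1))) n ≃ₗ[k] k)

/-- The trace on `Ext^n(O, ω)`. -/
def traceExt : Ext O₀ ω₀ n →ₗ[k] k := t.toLinearMap ∘ₗ toHH (k := k) _ n

/-- The Yoneda pairing. -/
def pairing (G : (CohB1.ProjSpace n k).Modules) {i j : ℕ} (h : j + i = n) :
    Ext G ω₀ i →ₗ[k] Module.Dual k (Ext O₀ G j) :=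
  (LinearMap.llcomp k (Ext O₀ G j) (Ext O₀ ω₀ n) k (traceExt t)).comp
    (Ext.bilinearCompOfLinear k O₀ G ω₀ j i n h).flip

theorem pairing_apply (G : (CohB1.ProjSpace n k).Modules) {i j : ℕ} (h : j + i = n) (x : Ext G ω₀ i)
    (y : Ext O₀ G j) : pairing t G h x y = traceExt t (y.comp x h) := rfl

theorem pairing_zero_bijective {G : (CohB1.ProjSpace n k).Modules} (hG : Coh.IsCoh G) :
    Function.Bijective (pairing t G (add_zero n)) := by
  let eG : Ext O₀ G n ≃ₗ[k] Coh.HH (CohB1.ProjSpace n k) G n := LinearEquiv.ofBijective _ (bijective_toHH n G)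
  have key : ⇑(pairing t G (add_zero n)) = ⇑eG.dualMap ∘ ⇑(ext0Equiv t hG) := by
    funext x
    obtain ⟨φ, rfl⟩ : ∃ f, Ext.mk₀ f = x := (Ext.mk₀_bijective _ _).2 x
    refine LinearMap.ext fun y => ?_
    rw [Function.comp_apply, ext0Equiv_mk₀]
    show t (toHH (k := k) _ n (y.comp (Ext.mk₀ φ) (add_zero n))) = t (hhMap k φ n (toHH (k := k) G n y))
    rw [toHH_comp]
  rw [key]
  exact eG.dualMap.bijective.comp (ext0Equiv t hG).bijective

theorem subsingleton_extO_sumTwist (b : ℕ) {s : ℤ} (hs : s ≤ -1) {j : ℕ} (hj : j < n) :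
    Subsingleton (Ext O₀ (CMReg.sumTwist n k b s) j) :=
  haveI := subsingleton_HH_sumTwist (n := n) (k := k) b hs hj
  (bijective_toHH (k := k) j (CMReg.sumTwist n k b s)).1.subsingleton

theorem pairing_bijective : ∀ (i : ℕ) {j : ℕ} (h : j + i = n) {G : (CohB1.ProjSpace n k).Modules},
    Coh.IsCoh G → Function.Bijective (pairing t G h) := by
  intro i
  induction i with
  | zero =>
    intro j h G hG
    obtain rfl : j = n := by omega
    exact pairing_zero_bijective t hG
  | succ i ih =>
    intro j h G hG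
    obtain ⟨b, s, p, hs, hp, hK⟩ := exists_twist_presentation hG (-1)
    haveI := hp
    have hS : (ShortComplex.mk (kernel.ι p) p (kernel.condition p)).ShortExact :=
      { exact := ShortComplex.exact_of_f_is_kernel _ (kernelIsKernel p) }
    have hP := CMReg.isCoh_sumTwist (n := n) (k := k) b s
    have hi : (j + 1) + i = n := by omega
    have hsurj := surjective_extDelta hS i (subsingleton_ext_sumTwist b hs (by omega))
    haveI := subsingleton_extO_sumTwist (n := n) (k := k) b hs (j := j) (by omega)
    let δ : Ext O₀ G j →ₗ[k] Ext O₀ (kernel p) (j + 1) := Ext.postcompOfLinear hS.extClass k O₀ rfl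
    have hδ : Function.Injective δ := (injective_iff_map_eq_zero _).2 fun y hy => by
      obtain ⟨w, rfl⟩ := Ext.covariant_sequence_exact₃ _ hS y rfl hy
      rw [Subsingleton.elim w 0, Ext.zero_comp]
    have hcompat : ∀ z y, pairing t G h (extDelta hS i z) y = pairing t (kernel p) hi z (δ y) := fun z y => by
      show traceExt t (y.comp (hS.extClass.comp z (Nat.add_comm 1 i)) h) = traceExt t ((y.comp hS.extClass rfl).comp z hi)
      rw [Ext.comp_assoc y hS.extClass z rfl (Nat.add_comm 1 i) (by omega)]
    refine ⟨(injective_iff_map_eq_zero _).2 fun x hx => ?_, fun ψ => ?_⟩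
    · obtain ⟨z, rfl⟩ := hsurj x
      let fP : Ext O₀ (kernel p) (j + 1) →ₗ[k] Ext O₀ (CMReg.sumTwist n k b s) (j + 1) :=
        Ext.postcompOfLinear (Ext.mk₀ (kernel.ι p)) k O₀ (add_zero _)
      have hmem : pairing t (kernel p) hi z ∈ LinearMap.range fP.dualMap := by
        rw [LinearMap.range_dualMap_eq_dualAnnihilator_ker, Submodule.mem_dualAnnihilator]
        intro y hy
        obtain ⟨w, rfl⟩ := Ext.covariant_sequence_exact₁ _ hS y (LinearMap.mem_ker.1 hy) rfl
        exact (hcompat z w).symm.trans (LinearMap.congr_fun hx w)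
      obtain ⟨χ, hχ⟩ := hmem
      rcases Nat.eq_zero_or_pos i with rfl | hi0
      · obtain ⟨w, hw⟩ := (ih hi hP).2 χ
        have hz : z = (Ext.mk₀ (kernel.ι p)).comp w (zero_add 0) := by
          refine (ih hi hK).1 ?_
          rw [← hχ, ← hw]
          refine LinearMap.ext fun y => ?_
          show traceExt t ((y.comp (Ext.mk₀ (kernel.ι p)) (add_zero _)).comp w hi) =
            traceExt t (y.comp ((Ext.mk₀ (kernel.ι p)).comp w (zero_add 0)) hi)
          rw [Ext.comp_assoc_of_second_deg_zero]
        rw [hz]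
        exact hS.extClass_comp_assoc (h := Nat.add_comm 1 0) w
      · haveI := subsingleton_extO_sumTwist (n := n) (k := k) b hs (j := j + 1) (by omega)
        have hz : z = 0 := by
          refine (ih hi hK).1 ?_
          rw [map_zero, ← hχ]
          refine LinearMap.ext fun y => ?_
          show χ (fP y) = 0
          rw [Subsingleton.elim (fP y) 0, map_zero]
        rw [hz, map_zero]
    · obtain ⟨χ, hχ⟩ := LinearMap.dualMap_surjective_of_injective hδ ψ
      obtain ⟨z, hz⟩ := (ih hi hK).2 χ
      refine ⟨extDelta hS i z, LinearMap.ext fun y => ?_⟩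
      rw [hcompat, hz, ← hχ]
      rfl

end GrothLib.SerrePn27
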